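import Cfsg.Agent.Walter.Setting
import Cfsg.Agent.FourGroupGW.LocalLc
import Cfsg.Agent.Coprime.Sylow
import Cfsg.Agent.Components.BalanceDelta

/-!
Walter, the branch of rank three: covering subgroups of involution centralisers, coprime tools.
-/

set_option autoImplicit false
set_option linter.unusedSectionVars false
set_option linter.style.haveILetI false

namespace Cfsg.Lib.Walter.R3

open Subgroup Cfsg.Lib.Coprime
open Cfsg.Lib.GW (Core core_le le_normalizer_core)

universe u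

variable {G : Type u} [Group G] [Finite G]

/-- `H` covers `C(a)` modulo its odd core. -/
def Cov (a : G) (H : Subgroup G) : Prop :=
  ∀ x : G, Commute x a → ∃ o ∈ Oc a, ∃ h ∈ H, Commute h a ∧ x = o * h

theorem Cov.mono {a : G} {H K : Subgroup G} (h : Cov a H) (hHK : H ≤ K) : Cov a K := fun x hx =>
  let ⟨o, ho, k, hk, hka, e⟩ := h x hx; ⟨o, ho, k, hHK hk, hka, e⟩

theorem mem_cent {a x : G} : x ∈ centralizer ({a} : Set G) ↔ Commute x a :=
  mem_centralizer_singleton_iff.trans Iff.rfl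

theorem oc_comm {a x : G} (hx : x ∈ Oc a) : Commute x a :=
  mem_cent.1 (Cfsg.Lib.Components.centralizerPPrimeCore_le_centralizer a hx)

theorem odd_oc (a : G) : Odd (Nat.card ↥(Oc a)) :=
  Nat.coprime_two_right.1 (Cfsg.Lib.Components.centralizerPPrimeCore_card_coprime (p := 2) a)

theorem oc_norm (a : G) : centralizer ({a} : Set G) ≤ normalizer (Oc a : Set G) :=
  Cfsg.Lib.Components.centralizer_le_normalizer_centralizerPPrimeCore a

theorem le_oc {a : G} {K : Subgroup G} (hK : K ≤ centralizer ({a} : Set G))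
    (hn : centralizer ({a} : Set G) ≤ normalizer (K : Set G)) (ho : Odd (Nat.card ↥K)) : K ≤ Oc a := by
  haveI : Fact (Nat.Prime 2) := ⟨Nat.prime_two⟩
  exact Cfsg.Lib.Components.le_centralizerPPrimeCore hK hn (Nat.coprime_two_right.2 ho)

theorem conj_mem_oc {g a x : G} (hx : x ∈ Oc a) : g * x * g⁻¹ ∈ Oc (g * a * g⁻¹) := by
  have h := mem_map_of_mem (MulAut.conj g).toMonoidHom hx
  rwa [Cfsg.Lib.Components.centralizerPPrimeCore_map_equiv] at h

theorem conj_mem_oc_iff {g a x : G} : g * x * g⁻¹ ∈ Oc (g * a * g⁻¹) ↔ x ∈ Oc a := by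
  refine ⟨fun h => ?_, conj_mem_oc⟩
  have := conj_mem_oc (g := g⁻¹) h
  rwa [show g⁻¹ * (g * x * g⁻¹) * g⁻¹⁻¹ = x by group, show g⁻¹ * (g * a * g⁻¹) * g⁻¹⁻¹ = a by group] at this

theorem Cov.conj {a g : G} {H : Subgroup G} (h : Cov a H) (hg : g ∈ H) : Cov (g * a * g⁻¹) H := by
  intro x hx
  obtain ⟨o, ho, k, hk, hka, e⟩ := h (g⁻¹ * x * g) (by
    have := hx.map (MulAut.conj g⁻¹).toMonoidHom
    simpa [mul_assoc] using this)
  refine ⟨g * o * g⁻¹, conj_mem_oc ho, g * k * g⁻¹, mul_mem (mul_mem hg hk) (inv_mem hg),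
    by simpa using hka.map (MulAut.conj g).toMonoidHom, ?_⟩
  calc x = g * (g⁻¹ * x * g) * g⁻¹ := by group
    _ = _ := by rw [e]; group

theorem le_core {H X : Subgroup G} (hX : X ≤ H) (hn : H ≤ normalizer (X : Set G))
    (ho : Odd (Nat.card ↥X)) : X ≤ Core H := by
  haveI : (X.subgroupOf H).Normal := (normal_subgroupOf_iff_le_normalizer hX).2 hn
  rw [← map_subgroupOf_eq_of_le hX]
  exact map_mono (Cfsg.Lib.Components.le_pPrimeCore (Nat.coprime_two_right.2
    (by rw [Nat.card_congr (subgroupOfEquivOfLe hX).toEquiv]; exact ho)))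

theorem odd_orderOf {K : Subgroup G} (hK : Odd (Nat.card ↥K)) {x : G} (hx : x ∈ K) : Odd (orderOf x) :=
  hK.of_dvd_nat (K.orderOf_dvd_natCard hx)

theorem eq_one_of_sq {K : Subgroup G} (hK : Odd (Nat.card ↥K)) {x : G} (hx : x ∈ K) (h2 : x * x = 1) :
    x = 1 := by
  have h : orderOf x ∣ 2 := orderOf_dvd_of_pow_eq_one (by rw [pow_two, h2])
  rcases (Nat.dvd_prime Nat.prime_two).1 h with e | e
  · exact orderOf_eq_one_iff.1 e
  · exact absurd (odd_orderOf hK hx) (by rw [e]; decide)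

theorem odd_card_pgroup {p : ℕ} [hp : Fact p.Prime] (h2 : p ≠ 2) {R : Subgroup G} (h : IsPGroup p ↥R) :
    Odd (Nat.card ↥R) := by
  obtain ⟨k, hk⟩ := IsPGroup.iff_card.1 h
  rw [hk]
  exact (hp.out.odd_of_ne_two h2).pow

theorem coprime_of_two {a : G} (haa : a * a = 1) {D : Subgroup G} (hD : Odd (Nat.card ↥D)) :
    (Nat.card ↥(zpowers a)).Coprime (Nat.card ↥D) := by
  rw [Nat.card_zpowers]
  exact (Nat.coprime_two_left.2 hD).coprime_dvd_left (orderOf_dvd_of_pow_eq_one (by rw [pow_two, haa]))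

theorem zpowers_solvable (a : G) : Group.IsSolvable ↥(zpowers a) :=
  Group.isSolvable_of_comm fun x y => mul_comm' x y

theorem conj_inv_of_two {a : G} (haa : a * a = 1) : a⁻¹ = a := inv_eq_of_mul_eq_one_right haa

/-- a coset of an odd subgroup stabilised by an involution contains a fixed element -/
theorem exists_commute_mul {a : G} (haa : a * a = 1) {D : Subgroup G} (hD : Odd (Nat.card ↥D))
    (hn : ∀ d ∈ D, a * d * a⁻¹ ∈ D) {k : G} (hk : k⁻¹ * a * k * a⁻¹ ∈ D) :
    ∃ d ∈ D, Commute (k * d) a := by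
  have hcases : ∀ b ∈ zpowers a, b = 1 ∨ b = a := by
    rintro _ ⟨i, rfl⟩
    rcases Int.even_or_odd i with ⟨j, rfl⟩ | ⟨j, rfl⟩
    · exact Or.inl (by simp [zpow_add, ← Commute.mul_zpow (Commute.refl a), haa])
    · exact Or.inr (by simp [zpow_add, two_mul, ← Commute.mul_zpow (Commute.refl a), haa])
  have hAD : zpowers a ≤ normalizer (D : Set G) := zpowers_le.2 (mem_normalizer_iff.2 fun d =>
    ⟨hn d, fun h => by
      have := hn _ h
      rwa [show a * (a * d * a⁻¹) * a⁻¹ = (a * a) * d * (a * a)⁻¹ by group, haa, one_mul, inv_one,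
        mul_one] at this⟩)
  obtain ⟨d, hd, hc⟩ := exists_fixed_in_coset hAD (coprime_of_two haa hD) (Or.inl (zpowers_solvable a))
    (k := k) (fun b hb => by
      rcases hcases b hb with rfl | rfl
      · simp
      · exact hk)
  exact ⟨d, hd, (mem_centralizer_iff.1 hc a (mem_zpowers a)).symm⟩

/-- Frattini: conjugating back an invariant Sylow subgroup of a normal subgroup -/
theorem exists_norm_mul {p : ℕ} [Fact p.Prime] {H K P : Subgroup G} (hn : H ≤ normalizer (K : Set G))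
    (hPK : P ≤ K) (hP : IsPGroup p ↥P)
    (hmax : ∀ R : Subgroup G, P ≤ R → R ≤ K → IsPGroup p ↥R → R = P) {h : G} (hh : h ∈ H) :
    ∃ k ∈ K, k⁻¹ * h ∈ normalizer (P : Set G) := by
  obtain ⟨T, hT⟩ := (hP.of_equiv (subgroupOfEquivOfLe hPK).symm).exists_le_sylow
  have hTP : (T : Subgroup ↥K).map K.subtype = P := by
    refine hmax _ ?_ (map_subtype_le _) (T.2.map _)
    rw [← map_subgroupOf_eq_of_le hPK]; exact map_mono hT
  have hle : conjMap h P ≤ K := fun y hy => by
    rw [mem_conjMap] at hy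
    have := (mem_normalizer_iff.1 (hn hh) _).1 (hPK hy)
    simpa [mul_assoc] using this
  obtain ⟨k, hk⟩ := MulAction.exists_smul_eq ↥K T (Sylow.ofCard ((conjMap h P).subgroupOf K) (by
    rw [Nat.card_congr (subgroupOfEquivOfLe hle).toEquiv, card_conjMap, ← hTP,
      card_map_of_injective K.subtype_injective, T.card_eq_multiplicity]))
  refine ⟨k, k.2, conjMap_eq_self_iff.1 ?_⟩
  have h2 : conjMap (k : G) P = conjMap h P := by
    conv_lhs => rw [← hTP, ← map_subtype_smul, hk, Sylow.coe_ofCard, map_subgroupOf_eq_of_le hle]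
  rw [← conjMap_mul, ← h2, conjMap_inv_conjMap]

/-- in a covering subgroup the odd core meets `C(a)` inside `O(C(a))` -/
theorem Cov.core_inf_le {a : G} {H : Subgroup G} (hcov : Cov a H) {x : G} (hx : x ∈ Core H) (hxa : Commute x a) :
    x ∈ Oc a := by
  set K := Core H ⊓ centralizer ({a} : Set G) with hK
  have hn : K ≤ normalizer (Oc a : Set G) := inf_le_right.trans (oc_norm a)
  have hle : Oc a ⊔ K ≤ Oc a := by
    refine le_oc (sup_le (Cfsg.Lib.Components.centralizerPPrimeCore_le_centralizer a) inf_le_right) ?_ ?_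
    · intro c hc
      obtain ⟨o, ho, h, hh, hha, rfl⟩ := hcov c (mem_cent.1 hc)
      refine mul_mem (le_normalizer (mem_sup_left ho)) ?_
      have h1 : H ⊓ centralizer ({a} : Set G) ≤ normalizer (K : Set G) :=
        le_normalizer_inf (inf_le_left.trans (le_normalizer_core H)) (inf_le_right.trans le_normalizer)
      exact le_normalizer_sup (inf_le_right.trans (oc_norm a)) h1
        (show h ∈ H ⊓ centralizer ({a} : Set G) from mem_inf.2 ⟨hh, mem_cent.2 hha⟩)
    · have h1 : Odd (Nat.card ↥(Oc a) * Nat.card ↥K) :=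
        (odd_oc a).mul ((Cfsg.Lib.GW.Frame.odd_card_core H).of_dvd_nat (card_dvd_of_le inf_le_left))
      rw [← card_sup_mul_card_inf hn] at h1
      exact (Nat.odd_mul.1 h1).1
  exact hle (mem_sup_right (mem_inf.2 ⟨hx, mem_cent.2 hxa⟩))

/-- Frattini: the normaliser of a Sylow subgroup of the odd core covers -/
theorem Cov.frattini {p : ℕ} [Fact p.Prime] {a : G} (haa : a * a = 1) {H P : Subgroup G} (hcov : Cov a H)
    (haH : a ∈ H) (hPK : P ≤ Core H) (hP : IsPGroup p ↥P)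
    (hmax : ∀ R : Subgroup G, P ≤ R → R ≤ Core H → IsPGroup p ↥R → R = P)
    (haP : a ∈ normalizer (P : Set G)) : Cov a (normalizer (P : Set G) ⊓ H) := by
  intro x hx
  obtain ⟨o, ho, h, hh, hha, rfl⟩ := hcov x hx
  obtain ⟨k, hk, hn⟩ := exists_norm_mul (le_normalizer_core H) hPK hP hmax hh
  set D := Core H ⊓ normalizer (P : Set G) with hD
  have hDo : Odd (Nat.card ↥D) :=
    (Cfsg.Lib.GW.Frame.odd_card_core H).of_dvd_nat (card_dvd_of_le inf_le_left)
  have hDa : ∀ d ∈ D, a * d * a⁻¹ ∈ D := fun d hd =>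
    mem_inf.2 ⟨(mem_normalizer_iff.1 (le_normalizer_core H haH) d).1 (mem_inf.1 hd).1,
      mul_mem (mul_mem haP (mem_inf.1 hd).2) (inv_mem haP)⟩
  obtain ⟨d, hd, hc⟩ := exists_commute_mul haa hDo hDa (k := k⁻¹ * h) (by
    refine ⟨?_, (normalizer (P : Set G)).mul_mem ((normalizer (P : Set G)).mul_mem ((normalizer (P : Set G)).mul_mem ((normalizer (P : Set G)).inv_mem hn) haP) hn) ((normalizer (P : Set G)).inv_mem haP)⟩
    have e : (k⁻¹ * h)⁻¹ * a * (k⁻¹ * h) * a⁻¹ = h⁻¹ * (k * (a * k⁻¹ * a⁻¹)) * h := by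
      rw [show (k⁻¹ * h)⁻¹ * a * (k⁻¹ * h) * a⁻¹ = h⁻¹ * (k * (a * k⁻¹ * a⁻¹)) * (a * h * a⁻¹) by group,
        ← hha.eq, mul_inv_cancel_right]
    rw [e]
    exact (mem_normalizer_iff''.1 (le_normalizer_core H hh) _).1
      (mul_mem hk ((mem_normalizer_iff.1 (le_normalizer_core H haH) _).1 (inv_mem hk))))
  have hnH : k⁻¹ * h * d ∈ H := mul_mem (mul_mem (inv_mem (core_le H hk)) hh) (core_le H hd.1)
  set y := h * (k⁻¹ * h * d)⁻¹ with hy
  have hya : Commute y a := hha.mul_left hc.inv_left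
  have hyK : y ∈ Core H := by
    rw [hy, show h * (k⁻¹ * h * d)⁻¹ = (h * d⁻¹ * h⁻¹) * k by group]
    exact mul_mem ((mem_normalizer_iff.1 (le_normalizer_core H hh) _).1 (inv_mem hd.1)) hk
  have hyO : y ∈ Oc a := hcov.core_inf_le hyK hya
  refine ⟨o * y, mul_mem ho hyO, k⁻¹ * h * d, ⟨mul_mem hn hd.2, hnH⟩, hc, ?_⟩
  rw [hy]; group

end Cfsg.Lib.Walter.R3
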