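import Cfsg.Agent.Walter.RankThree.Key
import Cfsg.Agent.Coprime.Generation

/-!
Walter, the branch of rank three: the group is balanced.
-/

set_option autoImplicit false
set_option linter.unusedSectionVars false
set_option linter.style.haveILetI false

namespace Cfsg.Lib.Walter.R3

open Subgroup Cfsg.Lib.Coprime
open Cfsg.Lib.GW (Core core_le le_normalizer_core)

universe u

variable {G : Type u} [Group G] [Finite G] {S : Sylow 2 G}

theorem sylow_conj_oc (hTh : Three S) {a : G} (haS : a ∈ S) {s x : G} (hs : s ∈ S) (hx : x ∈ Oc a) :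
    s * x * s⁻¹ ∈ Oc a :=
  (mem_normalizer_iff.1 (oc_norm a (mem_cent.2 (comm_of_sq (T := (S : Subgroup G)) hTh.sq hs haS))) x).1 hx

/-- an invariant Sylow subgroup of `O(C(a))` over a given invariant `p`-subgroup -/
theorem exists_sylow_oc (hTh : Three S) {a : G} (haS : a ∈ S) {p : ℕ} [Fact p.Prime] {U : Subgroup G}
    (hU : U ≤ Oc a) (hUp : IsPGroup p ↥U) (hUS : (S : Subgroup G) ≤ normalizer (U : Set G)) :
    ∃ P : Subgroup G, U ≤ P ∧ P ≤ Oc a ∧ IsPGroup p ↥P ∧ (S : Subgroup G) ≤ normalizer (P : Set G) ∧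
      ∀ R : Subgroup G, P ≤ R → R ≤ Oc a → IsPGroup p ↥R → R = P := by
  obtain ⟨T, hT0, hTS⟩ := exists_invariant_sylow_ge (A := (S : Subgroup G)) (K := Oc a)
    (fun s hs => Cfsg.Lib.GW.mem_normalizer_finite fun x hx => sylow_conj_oc hTh haS hs hx)
    (coprime_sylow hTh (odd_oc a)) (Or.inl (solvable_sylow hTh)) p hU hUp hUS
  exact ⟨_, hT0, map_subtype_le _, T.2.map _, hTS, fun R h1 h2 h3 => sylow_max T h1 h2 h3⟩

theorem ne_two_of_odd {p : ℕ} [hp : Fact p.Prime] {K P : Subgroup G} (hK : Odd (Nat.card ↥K)) (hP : IsPGroup p ↥P)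
    (hPK : P ≤ K) (hne : P ≠ ⊥) : p ≠ 2 := by
  rintro rfl
  obtain ⟨x, hx, hx1⟩ := P.bot_or_exists_ne_one.resolve_left hne
  obtain ⟨k, hk⟩ := hP ⟨x, hx⟩
  have h1 : orderOf x ∣ 2 ^ k := orderOf_dvd_of_pow_eq_one (congrArg Subtype.val hk)
  exact hx1 (orderOf_eq_one_iff.1 (Nat.eq_one_of_dvd_coprimes
    ((Nat.coprime_two_right.2 (odd_orderOf hK (hPK hx))).pow_right k) dvd_rfl h1))

theorem balance (hE : Env S) {a b : G} (ha : a ∈ S) (hb : b ∈ S) (ha1 : a ≠ 1) (hb1 : b ≠ 1) {x : G}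
    (hx : x ∈ Oc a) (hxb : Commute x b) : x ∈ Oc b := by
  classical
  rcases eq_or_ne a b with rfl | hab
  · exact hx
  haveI : Fact (Nat.Prime 2) := ⟨Nat.prime_two⟩
  have hTh := hE.three
  set X := Oc a ⊓ centralizer ({b} : Set G) with hX
  have hXS : (S : Subgroup G) ≤ normalizer (X : Set G) := fun s hs => Cfsg.Lib.GW.mem_normalizer_finite fun z hz => by
    have hsb := comm_of_sq (T := (S : Subgroup G)) hTh.sq hs hb
    exact mem_inf.2 ⟨sylow_conj_oc hTh ha hs (mem_inf.1 hz).1,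
      mem_cent.2 ((hsb.mul_left (mem_cent.1 (mem_inf.1 hz).2)).mul_left hsb.inv_left)⟩
  have hXo : Odd (Nat.card ↥X) := (odd_oc a).of_dvd_nat (card_dvd_of_le inf_le_left)
  set W := (X ⊓ Oc b) ⊔ (X ⊓ centralizer ((S : Subgroup G) : Set G)) with hW
  have hXW : X ≤ W := Cfsg.Lib.Coprime.le_of_forall_sylow fun q hq => by
    haveI := Fact.mk hq
    obtain ⟨T, hTS⟩ := exists_invariant_sylow (A := (S : Subgroup G)) (K := X) hXS (coprime_sylow hTh hXo)
      (Or.inl (solvable_sylow hTh)) q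
    refine ⟨T, ?_⟩
    set U := (T : Subgroup ↥X).map X.subtype with hU
    have hUX : U ≤ X := map_subtype_le _
    by_cases hUc : (S : Subgroup G) ≤ centralizer (U : Set G)
    · exact (le_inf hUX (le_centralizer_iff.1 hUc)).trans le_sup_right
    have hne : U ≠ ⊥ := fun e => hUc fun s _ => mem_centralizer_iff.2 fun z hz => by
      rw [e] at hz; obtain rfl : z = 1 := hz; simp
    obtain ⟨P, hUP, hPO, hPp, hPS, hPmax⟩ :=
      exists_sylow_oc hTh ha (hUX.trans inf_le_left) (T.2.map _) hTS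
    have hpt : Pt S a q P := ⟨hE, ha, ha1, ne_two_of_odd hXo (T.2.map _) hUX hne, hPO, hPp, hPS, hPmax,
      fun h => hUc (h.trans (centralizer_le (SetLike.coe_subset_coe.2 hUP)))⟩
    obtain ⟨P₀, h⟩ := hpt.exists_top
    refine le_trans (le_inf hUX fun z hz => ?_) le_sup_left
    exact h.key (h.good.1 (hUP hz)) hb hb1 (mem_cent.1 (mem_inf.1 (hUX hz)).2)
  -- `X` is centralised by `S` modulo `O(C(b))`
  have hSb : (S : Subgroup G) ≤ centralizer ({b} : Set G) := sylow_le_cent hTh hb hb1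
  set D := centralizer ((S : Subgroup G) : Set G) with hD
  have hDb : D ≤ centralizer ({b} : Set G) := fun z hz =>
    mem_cent.2 (mem_centralizer_iff.1 hz b hb).symm
  have hDn : D ≤ normalizer (Oc b : Set G) := hDb.trans (oc_norm b)
  have hXD : Oc b ⊔ X ≤ Oc b ⊔ D :=
    sup_le le_sup_left (hXW.trans (sup_le (inf_le_right.trans le_sup_left) (inf_le_right.trans le_sup_right)))
  have hXn : X ≤ normalizer (Oc b : Set G) := inf_le_right.trans (oc_norm b)
  have hY : Oc b ⊔ X ≤ Oc b := by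
    obtain ⟨s, hs, hs1, hsb⟩ : ∃ s ∈ S, s ≠ 1 ∧ s ≠ b := ⟨a, ha, ha1, hab⟩
    refine cent_field hTh hb hb1 hE.a3 (Y := Oc b ⊔ X)
      (sup_le (Cfsg.Lib.Components.centralizerPPrimeCore_le_centralizer b) inf_le_right)
      (sup_odd hXn (odd_oc b) hXo) (fun y hy r hr => ?_) ha ha1 hab (fun c hcb hca y hy => ?_)
    · obtain ⟨d, hd, o, ho, rfl⟩ := (mem_sup_of_le_normalizer' hDn).1 (hXD hy)
      have h1 : o * (r * o⁻¹ * r⁻¹) ∈ Oc b := mul_mem ho (sylow_conj_oc hTh hb hr (inv_mem ho))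
      have h2 := (mem_normalizer_iff.1 (oc_norm b (hDb hd)) _).1 h1
      have hdr : d * r = r * d := (mem_centralizer_iff.1 hd r hr).symm
      have e : d * o * r * (d * o)⁻¹ * r⁻¹ = d * (o * (r * o⁻¹ * r⁻¹)) * d⁻¹ := by
        rw [show d * o * r * (d * o)⁻¹ * r⁻¹ = d * o * r * o⁻¹ * (r * d)⁻¹ by group, ← hdr]
        group
      rw [e]; exact h2
    · have hc : c ∈ normalizer ((Oc b ⊔ X : Subgroup G) : Set G) := by
        refine le_normalizer_sup (H := centralizer ({b} : Set G) ⊓ centralizer ({a} : Set G))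
          (inf_le_left.trans (oc_norm b)) ?_ (mem_inf.2 ⟨mem_cent.2 hcb, mem_cent.2 hca⟩)
        exact le_normalizer_inf (inf_le_right.trans (oc_norm a)) (inf_le_left.trans le_normalizer)
      exact (mem_normalizer_iff.1 hc y).1 hy
  exact hY (mem_sup_right (mem_inf.2 ⟨hx, mem_cent.2 hxb⟩))

end Cfsg.Lib.Walter.R3
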