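import Cfsg.Agent.Walter.RankThree.Balance
import Cfsg.Agent.Components.Signalizer.Sft.Main

/-!
Walter, the branch of rank three: the involution centralisers normalise the completion of the functor.
-/

set_option autoImplicit false
set_option linter.unusedSectionVars false
set_option linter.style.haveILetI false

namespace Cfsg.Lib.Walter.R3

open Subgroup Cfsg.Lib.Coprime
open Cfsg.Lib.GW (Core core_le le_normalizer_core)

universe u

variable {G : Type u} [Group G] [Finite G] {S : Sylow 2 G}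

/-- the subgroup generated by the odd cores at `S` -/
def Wt (S : Sylow 2 G) : Subgroup G := ⨆ v : {v : G // v ∈ S ∧ v ≠ 1}, Oc v.1

theorem oc_le_wt {v : G} (hv : v ∈ S) (hv1 : v ≠ 1) : Oc v ≤ Wt S :=
  le_iSup (fun v : {v : G // v ∈ S ∧ v ≠ 1} => Oc v.1) ⟨v, hv, hv1⟩

theorem norm_le_wt : normalizer ((S : Subgroup G) : Set G) ≤ normalizer (Wt S : Set G) := by
  intro g hg
  refine Cfsg.Lib.GW.mem_normalizer_finite fun x hx => ?_
  refine (iSup_le fun v => ?_ : Wt S ≤ (Wt S).comap (MulAut.conj g).toMonoidHom) hx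
  intro y hy
  exact oc_le_wt ((mem_normalizer_iff.1 hg v.1).1 v.2.1) (fun e => v.2.2 (conj_eq_one_iff.1 e)) (conj_mem_oc hy)

theorem sylow_le_wt : (S : Subgroup G) ≤ normalizer (Wt S : Set G) := le_normalizer.trans norm_le_wt

theorem wt_family (hE : Env S) :
    Odd (Nat.card ↥(Wt S)) ∧
      ∀ v ∈ S, v ≠ 1 → ∀ x ∈ Wt S, Commute x v → x ∈ Oc v := by
  haveI : Fact (Nat.Prime 2) := ⟨Nat.prime_two⟩
  have hTh := hE.three
  have hA : Cfsg.IsElementaryAbelian 2 (S : Subgroup G) :=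
    ⟨⟨⟨fun x y => Subtype.ext (comm_of_sq (T := (S : Subgroup G)) hTh.sq x.2 y.2).eq⟩⟩,
      fun x hx => by rw [pow_two]; exact hTh.sq x hx⟩
  have hθ : Cfsg.IsSolvableSignalizerFunctor 2 (S : Subgroup G) (fun v => Oc v) := by
    refine ⟨⟨fun a _ _ => Cfsg.Lib.Components.centralizerPPrimeCore_le_centralizer a, fun a _ _ h => ?_,
      fun a ha _ b hb x hx => sylow_conj_oc hTh ha hb hx, fun a ha ha1 b hb hb1 x hx => ?_⟩,
      fun a _ _ => Cfsg.Agent.PF.isSolvable_of_odd _ (odd_oc a)⟩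
    · exact Nat.not_even_iff_odd.2 (odd_oc a) (even_iff_two_dvd.2 h)
    · exact balance hE ha hb ha1 hb1 (mem_inf.1 hx).1 (mem_cent.1 (mem_inf.1 hx).2)
  obtain ⟨W, hW, hle⟩ := Cfsg.Lib.Sft.exists_member hA (by rw [hTh.card]; norm_num) hθ
  have hWle : Wt S ≤ W := iSup_le fun v => hle v.1 v.2.1 v.2.2
  refine ⟨?_, fun v hv hv1 x hx hxv => hW.2.2.2 v hv hv1 (mem_inf.2 ⟨hWle hx, mem_cent.2 hxv⟩)⟩
  refine Odd.of_dvd_nat ?_ (card_dvd_of_le hWle)
  rw [← Nat.not_even_iff_odd, even_iff_two_dvd]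
  exact hW.2.1

theorem le_of_fixed (hTh : Three S) {K L : Subgroup G} (hK : Odd (Nat.card ↥K))
    (hS : (S : Subgroup G) ≤ normalizer (K : Set G))
    (hfix : ∀ v ∈ S, v ≠ 1 → ∀ x ∈ K, Commute x v → x ∈ L) : K ≤ L := by
  haveI : IsMulCommutative ↥(S : Subgroup G) :=
    ⟨⟨fun x y => Subtype.ext (comm_of_sq (T := (S : Subgroup G)) hTh.sq x.2 y.2).eq⟩⟩
  have hnc : ¬ IsCyclic ↥(S : Subgroup G) := fun h => by
    haveI := h
    obtain ⟨g, hg⟩ := IsCyclic.exists_generator (α := ↥(S : Subgroup G))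
    have h2 : orderOf g ∣ 2 := orderOf_dvd_of_pow_eq_one (Subtype.ext (by
      rw [Subgroup.coe_pow, pow_two]; exact hTh.sq g g.2))
    rw [orderOf_eq_card_of_forall_mem_zpowers hg, hTh.card] at h2
    norm_num at h2
  rw [← centralizerJoin_eq hnc hS (coprime_sylow hTh hK)]
  exact iSup₂_le fun v hv x hx => hfix v hv.1 hv.2 x (mem_inf.1 hx).1 (mem_cent.1 (mem_inf.1 hx).2)

/-- some Sylow subgroup of the completion has a normaliser covering `C(a)` -/
theorem exists_covering_sylow (hE : Env S) {a : G} (ha : a ∈ S) (ha1 : a ≠ 1) (p : ℕ) [hp : Fact p.Prime] :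
    ∃ T : Sylow p ↥(Wt S), Cov a (normalizer (((T : Subgroup ↥(Wt S)).map (Wt S).subtype : Subgroup G) : Set G)) := by
  classical
  haveI : Fact (Nat.Prime 2) := ⟨Nat.prime_two⟩
  have hTh := hE.three
  obtain ⟨hWo, hWfix⟩ := wt_family hE
  by_cases hmov : ∃ v, v ∈ S ∧ v ≠ 1 ∧ ∃ P, Pt S v p P
  · obtain ⟨v, hv, hv1, P, hP⟩ := hmov
    obtain ⟨P₀, h⟩ := hP.exists_top
    have hP₀o := odd_card_pgroup hP.odd h.good.2.1
    have hP₀W : P₀ ≤ Wt S := le_of_fixed hTh hP₀o h.good.2.2.1 fun w hw hw1 x hx hxw =>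
      oc_le_wt hw hw1 (h.key hx hw hw1 hxw)
    obtain ⟨T, hT0, hTS⟩ := exists_invariant_sylow_ge (A := (S : Subgroup G)) (K := Wt S) sylow_le_wt
      (coprime_sylow hTh hWo) (Or.inl (solvable_sylow hTh)) p hP₀W h.good.2.1 h.good.2.2.1
    set T₁ := (T : Subgroup ↥(Wt S)).map (Wt S).subtype with hT₁
    have hTeq : T₁ = P₀ := by
      by_contra hne
      haveI := (T.2.map (Wt S).subtype).isNilpotent
      obtain ⟨z, hzn, hzP⟩ := SetLike.exists_of_lt (Group.normalizerCondition_of_isNilpotent (G := ↥T₁)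
        (P₀.subgroupOf T₁) (lt_top_iff_ne_top.mpr fun e => hne (le_antisymm (subgroupOf_eq_top.mp e) hT0)))
      rw [← subgroupOf_normalizer_eq hT0] at hzn
      set R := T₁ ⊓ normalizer (P₀ : Set G) with hR
      set H := normalizer (P₀ : Set G) with hH
      have hRS : (S : Subgroup G) ≤ normalizer (R : Set G) :=
        le_normalizer_inf hTS (h.good.2.2.1.trans le_normalizer)
      have hRo : Odd (Nat.card ↥R) := hWo.of_dvd_nat (card_dvd_of_le (inf_le_left.trans (map_subtype_le _)))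
      have hRW : R ≤ Wt S := inf_le_left.trans (map_subtype_le _)
      have hRH : R ≤ H := inf_le_right
      have hRC : R ≤ Core H := by
        by_cases hiso : Iso S v H
        · intro x hx
          obtain ⟨k, hk, c, hc, hca, e⟩ := h.over.factor hiso (hRH hx)
          have haR : v ∈ normalizer (R : Set G) := hRS hv
          have hD : x⁻¹ * v * x * v⁻¹ ∈ Core H ⊓ R := by
            refine mem_inf.2 ⟨?_, ?_⟩
            · have h1 := core_norm (inv_mem hc) (mul_mem (inv_mem hk) (core_norm h.over.mem_H hk))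
              have e1 : x⁻¹ * v * x * v⁻¹ = c⁻¹ * (k⁻¹ * (v * k * v⁻¹)) * c⁻¹⁻¹ := by
                rw [e, show (k * c)⁻¹ * v * (k * c) * v⁻¹ = c⁻¹ * (k⁻¹ * (v * k * v⁻¹)) * (v * c * v⁻¹) by group,
                  ← hca.eq, mul_inv_cancel_right, inv_inv]
              rwa [e1]
            · rw [show x⁻¹ * v * x * v⁻¹ = x⁻¹ * (v * x * v⁻¹) by group]
              exact mul_mem (inv_mem hx) ((mem_normalizer_iff.1 haR x).1 hx)
          obtain ⟨d, hd, hdv⟩ := exists_commute_mul h.over.aa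
            ((Cfsg.Lib.GW.Frame.odd_card_core H).of_dvd_nat (card_dvd_of_le inf_le_left))
            (fun d hd => mem_inf.2 ⟨core_norm h.over.mem_H (mem_inf.1 hd).1,
              (mem_normalizer_iff.1 haR d).1 (mem_inf.1 hd).2⟩) hD
          have hxd : x * d ∈ R := mul_mem hx (mem_inf.1 hd).2
          have h2 := h.over.oc_inf (hWfix v hv hv1 _ (hRW hxd) hdv) (hRH hxd)
          simpa using mul_mem h2 (inv_mem (mem_inf.1 hd).1)
        · exact le_of_fixed hTh hRo hRS fun w hw hw1 x hx hxw =>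
            (h.over.over_all hiso hw hw1).oc_inf (hWfix w hw hw1 x (hRW hx) hxw) (hRH hx)
      have hRP := h.max_core h.over h.le_core (le_inf hT0 le_normalizer) hRC ((T.2.map _).to_le inf_le_left)
      exact hzP (mem_subgroupOf.2 (hRP ▸ mem_inf.2 ⟨z.2, hzn⟩))
    obtain ⟨n, hn, hna⟩ := hTh.trans v hv a ha hv1 ha1
    have hnW : n ∈ normalizer (Wt S : Set G) := norm_le_wt hn
    have hle : conjMap n T₁ ≤ Wt S := fun x hx => by
      have h1 := map_subtype_le _ (mem_conjMap.1 hx)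
      exact (mem_normalizer_iff''.1 hnW x).2 h1
    have hc : Nat.card ↥((conjMap n T₁).subgroupOf (Wt S)) = p ^ (Nat.card ↥(Wt S)).factorization p := by
      rw [Nat.card_congr (subgroupOfEquivOfLe hle).toEquiv, card_conjMap, hT₁,
        card_map_of_injective (Wt S).subtype_injective, T.card_eq_multiplicity]
    refine ⟨Sylow.ofCard _ hc, ?_⟩
    rw [Sylow.coe_ofCard, map_subgroupOf_eq_of_le hle, normalizer_conjMap, hTeq, ← hna]
    intro x hx
    obtain ⟨o, ho, k, hk, hkv, e⟩ := h.good.2.2.2 (n⁻¹ * x * n) (by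
      have := hx.map (MulAut.conj n⁻¹).toMonoidHom
      simpa [mul_assoc] using this)
    refine ⟨n * o * n⁻¹, conj_mem_oc ho, n * k * n⁻¹, mem_conjMap.2 (by simpa [mul_assoc] using hk),
      by simpa using hkv.map (MulAut.conj n).toMonoidHom, ?_⟩
    calc x = n * (n⁻¹ * x * n) * n⁻¹ := by group
      _ = _ := by rw [e]; group
  · obtain ⟨T, hTS⟩ := exists_invariant_sylow (A := (S : Subgroup G)) (K := Wt S) sylow_le_wt
      (coprime_sylow hTh hWo) (Or.inl (solvable_sylow hTh)) p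
    refine ⟨T, ?_⟩
    set T₁ := (T : Subgroup ↥(Wt S)).map (Wt S).subtype with hT₁
    have hTW : T₁ ≤ Wt S := map_subtype_le _
    have hTo : Odd (Nat.card ↥T₁) := hWo.of_dvd_nat (card_dvd_of_le hTW)
    have hTC : T₁ ≤ centralizer ((S : Subgroup G) : Set G) := le_of_fixed hTh hTo hTS fun v hv hv1 x hx hxv => by
      set U := T₁ ⊓ centralizer ({v} : Set G) with hU
      have hUO : U ≤ Oc v := fun z hz => hWfix v hv hv1 z (hTW (mem_inf.1 hz).1) (mem_cent.1 (mem_inf.1 hz).2)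
      have hvS : (S : Subgroup G) ≤ normalizer (U : Set G) :=
        le_normalizer_inf hTS ((sylow_le_cent hTh hv hv1).trans le_normalizer)
      obtain ⟨P, hUP, hPO, hPp, hPS, hPmax⟩ := exists_sylow_oc hTh hv hUO ((T.2.map _).to_le inf_le_left) hvS
      have hxU : x ∈ U := mem_inf.2 ⟨hx, mem_cent.2 hxv⟩
      rcases eq_or_ne P ⊥ with e | e
      · have : x = 1 := mem_bot.1 (e ▸ hUP hxU)
        rw [this]; exact one_mem _
      by_contra hxS
      refine hmov ⟨v, hv, hv1, P, hE, hv, hv1, ne_two_of_odd (odd_oc v) hPp hPO e, hPO, hPp, hPS, hPmax,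
        fun hc => hxS (le_centralizer_iff.1 hc (hUP hxU))⟩
    have hTa : T₁ ≤ Oc a := fun x hx => hWfix a ha ha1 x (hTW hx) (mem_centralizer_iff.1 (hTC hx) a ha).symm
    intro x hx
    obtain ⟨k, hk, hn⟩ := exists_norm_mul (oc_norm a) hTa (T.2.map _)
      (fun R h1 h2 h3 => sylow_max T h1 (h2.trans (oc_le_wt ha ha1)) h3) (mem_cent.2 hx)
    exact ⟨k, hk, k⁻¹ * x, hn, (oc_comm hk).inv_left.mul_left hx, (mul_inv_cancel_left k x).symm⟩

theorem cent_le_wt (hE : Env S) {a : G} (ha : a ∈ S) (ha1 : a ≠ 1) :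
    centralizer ({a} : Set G) ≤ normalizer (Wt S : Set G) := by
  intro g hg
  have hle : Wt S ≤ conjMap g (Wt S) := Cfsg.Lib.Coprime.le_of_forall_sylow fun q hq => by
    haveI := Fact.mk hq
    obtain ⟨T, hcov⟩ := exists_covering_sylow hE ha ha1 q
    refine ⟨T, fun x hx => ?_⟩
    obtain ⟨o, ho, k, hk, hka, rfl⟩ := hcov g (mem_cent.1 hg)
    have h1 : k⁻¹ * x * k ∈ Wt S := map_subtype_le _ ((mem_normalizer_iff''.1 hk x).1 hx)
    have ho' : k⁻¹ * o * k ∈ Wt S := by
      have := (mem_normalizer_iff''.1 (oc_norm a (mem_cent.2 hka)) o).1 ho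
      exact oc_le_wt ha ha1 this
    rw [mem_conjMap, show (o * k)⁻¹ * x * (o * k) = (k⁻¹ * o * k)⁻¹ * (k⁻¹ * x * k) * (k⁻¹ * o * k) by group]
    exact mul_mem (mul_mem (inv_mem ho') h1) ho'
  exact conjMap_eq_self_iff.1 (eq_of_le_of_card_ge hle (card_conjMap g _).le).symm

end Cfsg.Lib.Walter.R3
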