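import Cfsg.Agent.Walter.RankThree.Socle
import Cfsg.Agent.AbCentMax.Final
import Cfsg.Agent.S2507
import Cfsg.Agent.BenderSE.AbelianSylow.Large

/-!
Walter, the branch of rank three: core-free groups with a fusing Sylow 2-subgroup of order eight.
-/

set_option autoImplicit false
set_option linter.unusedSectionVars false
set_option linter.style.haveILetI false
set_option maxHeartbeats 1600000

namespace Cfsg.Lib.Walter.R3

open Subgroup Cfsg.Lib.GenDihedral

universe u

/-- the centraliser of an involution of `PSL(2, 2ⁿ)` is solvable -/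
theorem binary_cent {X : Type u} [Group X] [Finite X] [IsSimpleGroup X] (hna : ¬ IsMulCommutative X)
    (hb : IsBinaryPSL X) {t : X} (ht : orderOf t = 2) : Group.IsSolvable ↥(centralizer ({t} : Set X)) := by
  obtain ⟨F, i1, i2, ⟨n, hn, hF⟩, ⟨e⟩⟩ := hb
  have h2 : 2 ∣ Fintype.card F := hF ▸ dvd_pow_self 2 (by omega)
  have h4 : 4 ≤ Fintype.card F := hF ▸ (show 2 ^ 2 ≤ 2 ^ n from Nat.pow_le_pow_right two_pos hn)
  set C := centralizer ({t} : Set X) with hC
  have hmem : C.index ∈ Set.range (fun g : (Matrix.ProjectiveSpecialLinearGroup (Fin 2) F) =>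
      (centralizer ({g} : Set (Matrix.ProjectiveSpecialLinearGroup (Fin 2) F))).index) := by
    refine ⟨e t, ?_⟩
    show (centralizer ({e t} : Set _)).index = _
    rw [show centralizer ({e t} : Set _) = C.map e.toMonoidHom from
      (Cfsg.Lib.Components.centralizer_singleton_map_equiv e t).symm]
    exact index_map_equiv C e
  rw [Cfsg.Agent.S2507.result h2 h4] at hmem
  have hne : C.index ≠ 1 := fun h1 => by
    have htop := index_eq_one.1 h1
    rcases IsSimpleGroup.eq_bot_or_eq_top_of_normal (center X) inferInstance with hz | hz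
    · have : t ∈ center X := mem_center_iff.2 fun g => (mem_centralizer_singleton_iff.1 (htop ▸ mem_top g :
        g ∈ C))
      rw [hz, mem_bot] at this
      rw [this, orderOf_one] at ht; omega
    · exact hna ⟨⟨fun x y => (mem_center_iff.1 (hz ▸ mem_top y) x)⟩⟩
  have hgcd : Nat.gcd 2 (Fintype.card F - 1) = 1 := by
    refine (Nat.prime_two.coprime_iff_not_dvd).2 fun hd => ?_
    omega
  have hcard := Cfsg.Lib.Classical.SmallPSL.card_psl (F := F) rfl
  rw [hgcd, one_mul, ← Nat.card_congr e.toEquiv, ← C.card_mul_index] at hcard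
  have heven : 2 ∣ Nat.card C := by
    have := orderOf_dvd_natCard (G := C) ⟨t, mem_centralizer_singleton_iff.2 rfl⟩
    rwa [orderOf_mk, ht] at this
  obtain ⟨q, hq⟩ : ∃ q, Fintype.card F = q := ⟨_, rfl⟩
  rw [hq] at hmem hcard h2 h4
  obtain ⟨r, hr⟩ : ∃ r, q = r + 1 := ⟨q - 1, by omega⟩
  subst hr
  have e1 : (r + 1) ^ 2 - 1 = r * (r + 2) := by
    rw [Nat.sub_eq_iff_eq_add (Nat.one_le_pow _ _ (by omega))]; ring
  rw [e1] at hcard hmem
  simp only [Set.mem_insert_iff, Set.mem_singleton_iff, Nat.add_sub_cancel] at hmem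
  rcases hmem with h | h | h | h
  · exact absurd h hne
  · exfalso
    have : Nat.card C = r + 2 := Nat.eq_of_mul_eq_mul_left (n := (r + 1) * r) (Nat.mul_pos (by omega) (by omega)) (by
      rw [h] at hcard; linarith [hcard])
    omega
  · have hc : Nat.card C = r + 1 := Nat.eq_of_mul_eq_mul_left (n := r * (r + 2)) (Nat.mul_pos (by omega) (by omega)) (by
      rw [h] at hcard; linarith [hcard])
    exact solvable_of_two (IsPGroup.of_card (n := n) (by rw [hc, ← hq, hF]))
  · exfalso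
    have : Nat.card C = r := Nat.eq_of_mul_eq_mul_left (n := (r + 1) * (r + 2)) (by positivity) (by
      rw [h] at hcard; linarith [hcard])
    omega

variable {X : Type u} [Group X] [Finite X]

theorem hyp_map {t : X} {E E₀ : Subgroup X} {F : Type} [Field F] [Fintype F]
    (h : AbCentMax.Hyp t E E₀ F) (φ : MulAut X) :
    AbCentMax.Hyp (φ t) (E.map φ.toMonoidHom) (E₀.map φ.toMonoidHom) F := by
  refine ⟨by rw [φ.orderOf_eq]; exact h.ord, ?_, ?_, ?_, map_mono h.le, ?_, ?_, h.odd, ?_⟩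
  · rintro _ ⟨e, he, rfl⟩
    exact (h.comm e he).map φ.toMonoidHom
  · intro x hx
    have hx' : Commute (φ.symm x) t := by simpa using hx.map φ.symm.toMonoidHom
    obtain ⟨e, he, r⟩ := h.split _ hx'
    refine ⟨φ e, ⟨e, he, rfl⟩, r.imp (fun r => ?_) fun r => ?_⟩
    · rw [← r, φ.apply_symm_apply]
    · rw [← map_mul, ← r, φ.apply_symm_apply]
  · rintro ⟨e, he, hte⟩
    exact h.disj (φ.injective hte ▸ he)
  · rintro _ ⟨e, he, rfl⟩ _ ⟨x, hx, rfl⟩
    exact ⟨e * x * e⁻¹, h.norm e he x hx, by simp⟩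
  · rintro _ ⟨e, he, rfl⟩ hc
    have : e = 1 := h.faith e he fun x hx => by
      have := (hc _ ⟨x, hx, rfl⟩).map φ.symm.toMonoidHom
      simpa using this
    simp [this]
  · obtain ⟨f⟩ := h.iso
    exact ⟨(φ.subgroupMap E₀).symm.trans f⟩

section

variable (T : Sylow 2 X)

/-- In a core-free group with Sylow 2-subgroup of order eight, transitive normaliser, and a centraliser
that is not solvable: the socle has Janko–Ree type at every involution of `T`. -/
theorem socle_top (hT : Nat.card ↥(T : Subgroup X) = 8) (hsq : ∀ x ∈ T, x * x = 1) (hO : NoOdd X)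
    (htr : ∀ x ∈ T, ∀ y ∈ T, x ≠ 1 → y ≠ 1 → ∃ g ∈ normalizer ((T : Subgroup X) : Set X), g * x * g⁻¹ = y)
    {a : X} (haT : a ∈ T) (ha1 : a ≠ 1) (hns : ¬ Group.IsSolvable ↥(centralizer ({a} : Set X)))
    (hbelow : ∀ L : Subgroup X, IsSimpleGroup ↥L → ¬ IsMulCommutative ↥L → AbTwo ↥L → Typed ↥L) :
    ∃ (L : Subgroup X) (hTL : (T : Subgroup X) ≤ L), L.Normal ∧ IsSimpleGroup ↥L ∧ ¬ IsMulCommutative ↥L ∧
      centralizer (L : Set X) = ⊥ ∧ ∀ v (hv : v ∈ T), v ≠ 1 →
        ∃ (F : Type) (_ : Field F) (_ : Fintype F) (E E₀ : Subgroup ↥L),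
          Top (⟨v, hTL hv⟩ : L) E E₀ F (T.subtype hTL) := by
  classical
  haveI : Fact (Nat.Prime 2) := ⟨Nat.prime_two⟩
  have hsq2 : ∀ {y : X}, IsPGroup 2 (zpowers y) → y * y = 1 := fun hy =>
    Cfsg.Lib.BenderSE.AbSyl.sq_of_two_element T (fun x hx => hsq x hx) hy
  have hX : ¬ Group.IsSolvable X := fun h => hns inferInstance
  have hNT : NoTwo X := by
    intro N hN hexp
    by_contra hne
    obtain ⟨x, hx, hx1⟩ := N.bot_or_exists_ne_one.resolve_left hne
    have hN2 : IsPGroup 2 N := fun y => ⟨1, Subtype.ext (by simp [pow_two, hexp _ y.2])⟩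
    obtain ⟨R, hR⟩ := hN2.exists_le_sylow
    have hNT : N ≤ (T : Subgroup X) := by
      obtain ⟨g, hg⟩ := MulAction.exists_smul_eq X R T
      intro y hy
      have h1 : g⁻¹ * y * g ∈ N := by simpa using hN.conj_mem y hy g⁻¹
      have h2 : g * (g⁻¹ * y * g) * g⁻¹ ∈ (T : Subgroup X) := by rw [← hg]; exact ⟨_, hR h1, rfl⟩
      rwa [show g * (g⁻¹ * y * g) * g⁻¹ = y by group] at h2
    have hTN : (T : Subgroup X) ≤ N := by
      intro y hy
      rcases eq_or_ne y 1 with rfl | hy1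
      · exact one_mem _
      obtain ⟨g, -, rfl⟩ := htr x (hNT hx) y hy hx1 hy1
      exact hN.conj_mem x hx g
    exact hX (Cfsg.Lib.BenderSE.Ring2.solvable_of_normal_sylow T (le_antisymm hTN hNT ▸ hN))
  haveI : Nontrivial X := by
    by_contra h
    haveI := not_nontrivial_iff_subsingleton.1 h
    exact hX inferInstance
  obtain ⟨L, -, hLn, hLb, hmin⟩ :=
    Cfsg.Lib.Coprime.exists_minimal_normal (K := (⊤ : Subgroup X)) inferInstance top_ne_bot
  haveI := hLn
  have hLs : ¬ Group.IsSolvable L := fun h => hLb (rad_bot hO hNT hLn h)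
  have hTL : (T : Subgroup X) ≤ L := by
    obtain ⟨w, hw, hw1⟩ : ∃ w ∈ (T : Subgroup X) ⊓ L, w ≠ 1 := by
      refine ((T : Subgroup X) ⊓ L).bot_or_exists_ne_one.resolve_left fun e => hLs ?_
      exact solvable_of_small_inf T L (by rw [e, card_bot]; norm_num)
    intro y hy
    rcases eq_or_ne y 1 with rfl | hy1
    · exact one_mem _
    obtain ⟨g, -, rfl⟩ := htr w (mem_inf.1 hw).1 y hy hw1 hy1
    exact hLn.conj_mem w (mem_inf.1 hw).2 g
  set P : Sylow 2 L := T.subtype hTL with hP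
  have hP8 : Nat.card ↥(P : Subgroup L) = 8 :=
    (Nat.card_congr (subgroupOfEquivOfLe hTL).toEquiv).trans hT
  have hPsq : ∀ x ∈ P, x * x = 1 := fun x hx => Subtype.ext (hsq x (mem_subgroupOf.1 hx))
  have hOL : NoOdd L := noOdd_sub hO L
  have hNTL : NoTwo L := by
    intro N hN hexp
    haveI := hN
    have hle : N ≤ Cfsg.pCore 2 L :=
      Cfsg.Lib.Components.le_pCore fun y => ⟨1, Subtype.ext (by simp [pow_two, hexp _ y.2])⟩
    haveI : (Cfsg.pCore 2 L).Characteristic := by
      refine characteristic_iff_map_le.2 fun φ => ?_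
      haveI := (inferInstance : (Cfsg.pCore 2 L).Normal).map φ.toMonoidHom φ.surjective
      exact Cfsg.Lib.Components.le_pCore ((Cfsg.Lib.Components.isPGroup_pCore 2).map _)
    haveI : ((Cfsg.pCore 2 L).map L.subtype).Normal := ConjAct.normal_of_characteristic_of_normal
    have h0 := hNT ((Cfsg.pCore 2 L).map L.subtype) inferInstance fun y hy => by
      obtain ⟨k, hk⟩ := ((Cfsg.Lib.Components.isPGroup_pCore (G := L) 2).map L.subtype) ⟨y, hy⟩
      exact hsq2 (by
        obtain ⟨j, -, hj⟩ := (Nat.dvd_prime_pow Nat.prime_two).1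
          (orderOf_dvd_of_pow_eq_one (congrArg Subtype.val hk : y ^ 2 ^ k = 1))
        exact IsPGroup.of_card (n := j) (by rw [Nat.card_zpowers, hj]))
    rw [map_eq_bot_iff_of_injective _ L.subtype_injective] at h0
    exact le_bot_iff.1 (h0 ▸ hle)
  have h4 : ∀ M : Subgroup L, M.Normal → M ≠ ⊥ → 4 ≤ Nat.card ((P : Subgroup L) ⊓ M : Subgroup L) := by
    intro M hM hMb
    haveI := hM
    by_contra hc
    refine hMb (rad_bot hOL hNTL hM (solvable_of_small_inf P M ?_))
    obtain ⟨j, hj⟩ := IsPGroup.iff_card.1 (P.2.to_le (inf_le_left : (P : Subgroup L) ⊓ M ≤ P))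
    rw [hj] at hc ⊢
    have : j < 2 := by
      by_contra hj2
      exact hc (Nat.pow_le_pow_right two_pos (not_lt.1 hj2))
    interval_cases j <;> norm_num
  have hmeet : ∀ M M' : Subgroup L, M.Normal → M'.Normal → M ≠ ⊥ → M' ≠ ⊥ → M ⊓ M' ≠ ⊥ := by
    intro M M' hM hM' hb hb' e
    set A := (P : Subgroup L) ⊓ M
    set B := (P : Subgroup L) ⊓ M'
    have hBA : B ≤ normalizer (A : Set L) := fun y hy =>
      centralizer_le_normalizer _ (mem_centralizer_iff.2 fun x hx =>
        (comm_of_sq (T := (P : Subgroup L)) hPsq (inf_le_left (b := M) hx) (inf_le_left (b := M') hy)).eq)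
    have hc := Cfsg.Lib.Coprime.card_sup_mul_card_inf hBA
    have h0 : A ⊓ B = ⊥ := le_bot_iff.1 (e ▸ inf_le_inf inf_le_right inf_le_right)
    rw [h0, card_bot, mul_one] at hc
    have h8 : Nat.card ↥(A ⊔ B) ≤ 8 := hP8 ▸ card_le_of_le (sup_le inf_le_left inf_le_left)
    have := Nat.mul_le_mul (h4 M hM hb) (h4 M' hM' hb')
    rw [← hc] at this
    omega
  obtain ⟨M₀, ⟨hM₀n, hM₀b⟩, hM₀min⟩ := WellFounded.has_min (wellFounded_lt (α := Subgroup L))
    {M | M.Normal ∧ M ≠ ⊥} ⟨⊤, inferInstance, fun e => hLb (by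
      have := congrArg (map L.subtype) e
      rwa [Subgroup.map_bot, ← MonoidHom.range_eq_map, range_subtype] at this)⟩
  obtain ⟨w, hwM, hw1⟩ := M₀.bot_or_exists_ne_one.resolve_left hM₀b
  have hsimp : IsSimpleGroup L := simple_of_common hLb hmin (w := w) hw1 fun M hM hMb => by
    haveI := hM
    haveI := hM₀n
    have : M ⊓ M₀ = M₀ := by
      by_contra hne
      exact hM₀min (M ⊓ M₀) ⟨inferInstance, hmeet M M₀ hM hM₀n hMb hM₀b⟩ (lt_of_le_of_ne inf_le_right hne)
    exact (this.ge hwM).1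
  haveI := hsimp
  have hna : ¬ IsMulCommutative L := fun h => hLs (Group.isSolvable_of_comm fun x y => h.1.comm x y)
  have hCb : centralizer (L : Set X) = ⊥ := by
    have hCL : centralizer (L : Set X) ⊓ L = ⊥ := by
      have hn : ((centralizer (L : Set X)).subgroupOf L).Normal := inferInstance
      rcases hn.eq_bot_or_eq_top with h | h
      · rw [subgroupOf_eq_bot, disjoint_iff] at h; exact h
      · exact absurd (⟨⟨fun x y => Subtype.ext (mem_centralizer_iff.1 (subgroupOf_eq_top.1 h y.2) x x.2)⟩⟩ :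
          IsMulCommutative L) hna
    obtain ⟨k, m, hk, hm, hcard⟩ := card_inf_sylow T (centralizer (L : Set X))
    have hbot : (T : Subgroup X) ⊓ centralizer (L : Set X) = ⊥ :=
      le_bot_iff.1 (hCL ▸ le_inf inf_le_right (inf_le_left.trans hTL))
    rw [hbot, card_bot] at hk
    exact hO _ inferInstance (by rw [hcard, ← hk, one_mul]; exact hm)
  have habL : AbTwo L := fun S x hx y hy => by
    obtain ⟨g, hg⟩ := MulAction.exists_smul_eq L S P
    have hm : ∀ z ∈ S, g * z * g⁻¹ ∈ (P : Subgroup L) := fun z hz => by rw [← hg]; exact ⟨z, hz, rfl⟩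
    have h1 := (comm_of_sq (T := (P : Subgroup L)) hPsq (hm x hx) (hm y hy)).map (MulAut.conj g⁻¹).toMonoidHom
    simpa [mul_assoc] using h1.eq
  rcases hbelow L hsimp hna habL with hb | hs | ⟨-, t, E, E₀, F, i1, i2, h5, h8, hy⟩
  · exfalso
    have hC1 := binary_cent hna hb (t := (⟨a, hTL haT⟩ : L))
      (by rw [orderOf_mk]; exact order_two (T := (T : Subgroup X)) hsq haT ha1)
    refine hns ?_
    set C := centralizer ({a} : Set X)
    haveI : (L.subgroupOf C).Normal := inferInstance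
    refine solvable_ext (L.subgroupOf C) ?_ ?_
    · haveI := hC1
      refine Group.isSolvable_of_isSolvable_injective (f := MonoidHom.mk' (fun y : L.subgroupOf C =>
        (⟨⟨((y : C) : X), mem_subgroupOf.1 y.2⟩, mem_cent.2 (Subtype.ext (mem_cent.1 (y : C).2).eq)⟩ :
          centralizer ({(⟨a, hTL haT⟩ : L)} : Set L))) fun _ _ => rfl) fun y z e => ?_
      exact Subtype.ext (Subtype.ext (congrArg (fun w : centralizer ({(⟨a, hTL haT⟩ : L)} : Set L) =>
        ((w : L) : X)) e))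
    · refine Cfsg.Agent.PF.isSolvable_of_odd _ (Nat.not_even_iff_odd.1 fun he => T.not_dvd_index ?_)
      exact (he.two_dvd.trans (relIndex_dvd_index_of_normal L C)).trans (index_dvd_of_le hTL)
  · exfalso
    obtain ⟨F, i1, i2, h8, h5, ⟨e⟩⟩ := hs
    set Q : Sylow 2 (Matrix.ProjectiveSpecialLinearGroup (Fin 2) F) :=
      P.mapSurjective (f := e.toMonoidHom) e.surjective with hQ
    haveI := Cfsg.Agent.S0276.result rfl h8 Q
    have h1 : Nat.card ↥(Q : Subgroup (Matrix.ProjectiveSpecialLinearGroup (Fin 2) F)) = 8 :=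
      (card_map_of_injective (f := e.toMonoidHom) e.injective).trans hP8
    rw [IsKleinFour.card_four] at h1
    omega
  · refine ⟨L, hTL, hLn, hsimp, hna, hCb, fun v hv hv1 => ?_⟩
    obtain ⟨g, hg⟩ := Cfsg.Lib.BenderSE.Ring2.exists_conj_mem_sylow P hy.ord
    have hg1 : ((g * t * g⁻¹ : L) : X) ≠ 1 := fun e => by
      have h1 : g * t * g⁻¹ = 1 := Subtype.ext e
      rw [conj_eq_one_iff] at h1
      exact hy.t_ne h1
    obtain ⟨n, -, hn⟩ := htr _ (mem_subgroupOf.1 hg) v hv hg1 hv1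
    set φ : MulAut L := MulAut.conjNormal n * MulAut.conj g with hφ
    have hφt : φ t = ⟨v, hTL hv⟩ := Subtype.ext (by
      rw [hφ, MulAut.mul_apply, MulAut.conjNormal_apply]
      show n * ((g * t * g⁻¹ : L) : X) * n⁻¹ = v
      exact hn)
    exact ⟨F, i1, i2, E.map φ.toMonoidHom, E₀.map φ.toMonoidHom,
      ⟨hφt ▸ hyp_map hy φ, h5, h8, mem_subgroupOf.2 hv, hP8, hPsq⟩⟩

variable (hT : Nat.card ↥(T : Subgroup X) = 8) (hsq : ∀ x ∈ T, x * x = 1) (hO : NoOdd X)
  (htr : ∀ x ∈ T, ∀ y ∈ T, x ≠ 1 → y ≠ 1 → ∃ g ∈ normalizer ((T : Subgroup X) : Set X), g * x * g⁻¹ = y)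
  {a : X} (haT : a ∈ T) (ha1 : a ≠ 1) (hns : ¬ Group.IsSolvable ↥(centralizer ({a} : Set X)))
  (hbelow : ∀ L : Subgroup X, IsSimpleGroup ↥L → ¬ IsMulCommutative ↥L → AbTwo ↥L → Typed ↥L) (hA3 : A3Spec)
include hT hsq hO htr haT ha1 hns hbelow hA3

/-- the involution centraliser is core-free -/
theorem cent_core {R : Subgroup X} (hR : R ≤ centralizer ({a} : Set X))
    (hn : centralizer ({a} : Set X) ≤ normalizer (R : Set X)) (ho : Odd (Nat.card ↥R)) : R = ⊥ := by
  classical
  haveI : Fact (Nat.Prime 2) := ⟨Nat.prime_two⟩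
  obtain ⟨L, hTL, hLn, hsimp, hna, hCb, htop⟩ := socle_top T hT hsq hO htr haT ha1 hns hbelow
  haveI := hLn
  haveI := hsimp
  obtain ⟨F, i1, i2, E, E₀, h⟩ := htop a haT ha1
  set a' : L := ⟨a, hTL haT⟩ with ha'
  have habL : ∀ S : Sylow 2 L, IsMulCommutative (S : Subgroup L) := fun S => by
    obtain ⟨g, hg⟩ := MulAction.exists_smul_eq L S (T.subtype hTL)
    have hm : ∀ z : (S : Subgroup L), g * (z : L) * g⁻¹ ∈ T.subtype hTL := fun z => by
      show _ ∈ ((T.subtype hTL : Sylow 2 L) : Subgroup L)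
      rw [← hg]; exact ⟨z, z.2, rfl⟩
    exact ⟨⟨fun x y => Subtype.ext (by
      have h1 := (h.commute (hm x) (hm y)).map (MulAut.conj g⁻¹).toMonoidHom
      simpa [mul_assoc] using h1.eq)⟩⟩
  have hmaxC := AbCentMax.centralizer_isCoatom hna h.hyp habL
  have hLR : ∀ x ∈ R, x ∈ L → x = 1 := by
    intro x hx hxL
    have hx' : ((⟨x, hxL⟩ : L)) = 1 := h.odd_bot (N := R.subgroupOf L)
      (fun y hy => mem_cent.2 (Subtype.ext (mem_cent.1 (hR (mem_subgroupOf.1 hy))).eq))
      (fun g hg y hy => mem_subgroupOf.2 (by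
        have := (mem_normalizer_iff.1 (hn (show (g : X) ∈ centralizer ({a} : Set X) from
          mem_cent.2 (congrArg Subtype.val (h.hyp.comm g (h.hyp.le hg)).symm.eq))) _).1 (mem_subgroupOf.1 hy)
        simpa using this))
      (ho.of_dvd_nat (card_comap_dvd_of_injective R L.subtype L.subtype_injective)) (mem_subgroupOf.2 hx)
    exact congrArg Subtype.val hx'
  refine (eq_bot_iff_forall _).2 fun r hr => ?_
  have hfix : ∀ c : L, Commute c a' → (MulAut.conjNormal r : MulAut L) c = c := by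
    intro c hc
    apply Subtype.ext
    rw [MulAut.conjNormal_apply]
    have hcC : (c : X) ∈ centralizer ({a} : Set X) := mem_cent.2 (congrArg Subtype.val hc.eq)
    have h1 : (c : X) * r * (c : X)⁻¹ * r⁻¹ ∈ R := mul_mem ((mem_normalizer_iff.1 (hn hcC) r).1 hr) (inv_mem hr)
    have h2 : (c : X) * r * (c : X)⁻¹ * r⁻¹ ∈ L := by
      rw [show (c : X) * r * (c : X)⁻¹ * r⁻¹ = c * (r * (c : X)⁻¹ * r⁻¹) by group]
      exact mul_mem c.2 (hLn.conj_mem _ (inv_mem c.2) r)
    have h3 := mul_inv_eq_iff_eq_mul.1 (mul_inv_eq_one.1 (hLR _ h1 h2))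
    rw [← h3, mul_inv_cancel_right]
  set φ : MulAut L := MulAut.conjNormal r with hφ
  have hφo : Odd (orderOf φ) := (odd_orderOf ho hr).of_dvd_nat (orderOf_map_dvd MulAut.conjNormal r)
  set K : Subgroup L := φ.toMonoidHom.eqLocus (MonoidHom.id L) with hK
  have hCK : centralizer ({a'} : Set L) ≤ K := fun c hc => hfix c (mem_cent.1 hc)
  rcases eq_or_lt_of_le hCK with e | e
  · exfalso
    obtain ⟨s, s2, hsT, -, hsE, -, hs, -, -⟩ := h.exists_pair
    have hs1 : (s : X) ≠ 1 := fun e' => by rw [show s = 1 from Subtype.ext e', orderOf_one] at hs; omega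
    obtain ⟨F', j1, j2, E', E₀', h'⟩ := htop (s : X) (mem_subgroupOf.1 hsT) hs1
    have hφs : φ s = s := hfix s (h.commute hsT h.mem)
    have hsa : s ≠ a' := fun e' => h.hyp.disj (h.hyp.le (e' ▸ hsE))
    have hmap : E₀'.map φ.toMonoidHom = E₀' := h'.socle_map hφs
    obtain ⟨b, hbE, hb2, hbc, hbc'⟩ : ∃ b ∈ E₀', orderOf b = 2 ∧ (∀ x : L, Commute x s → Commute x b → Commute x a') ∧
        ∀ x : L, Commute x s → Commute x a' → Commute x b := by
      rcases h'.proj (mem_subgroupOf.2 haT : a' ∈ T.subtype hTL) with hp | hp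
      · exact ⟨a', hp, h.hyp.ord, fun _ _ hx => hx, fun _ _ hx => hx⟩
      · refine ⟨s * a', hp, order_two (T := ((T.subtype hTL : Sylow 2 L) : Subgroup L)) h'.sq
          (mul_mem hsT (mem_subgroupOf.2 haT : a' ∈ T.subtype hTL)) (fun e' => hsa ?_), fun x hxs hx => ?_, fun x hxs hx => hxs.mul_right hx⟩
        · rw [eq_inv_of_mul_eq_one_left e', h.hyp.t_inv]
        · have := hxs.inv_right.mul_right hx
          rwa [inv_mul_cancel_left] at this
    have hfixE := h'.fix_socle hA3 hmap hφo hbE hb2 fun x hx hxb =>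
      hfix x (hbc x (h'.hyp.comm x (h'.hyp.le hx)).symm hxb)
    have hb1 : b = 1 := h'.hyp.faith b (h'.hyp.le hbE) fun x hx => by
      have hxK : x ∈ centralizer ({a'} : Set L) := e.ge (hfixE x hx)
      have hxs : Commute x s := (h'.hyp.comm x (h'.hyp.le hx)).symm
      exact (hbc' x hxs (mem_cent.1 hxK)).symm
    rw [hb1, orderOf_one] at hb2
    omega
  · have htopK := hmaxC.2 K e
    have hrC : r ∈ centralizer (L : Set X) := mem_centralizer_iff.2 fun x hx => by
      have h1 : φ ⟨x, hx⟩ = ⟨x, hx⟩ := (htopK ▸ mem_top _ : (⟨x, hx⟩ : L) ∈ K)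
      have h2 := congrArg Subtype.val h1
      rw [hφ, MulAut.conjNormal_apply] at h2
      exact (mul_inv_eq_iff_eq_mul.1 h2).symm
    rwa [hCb, mem_bot] at hrC

/-- no `p`-subgroup is normalised by the involution centraliser -/
theorem pgroup_bot {p : ℕ} [Fact p.Prime] (hp : p ≠ 2) {R : Subgroup X} (hR : IsPGroup p ↥R)
    (hn : centralizer ({a} : Set X) ≤ normalizer (R : Set X)) : R = ⊥ := by
  classical
  haveI : Fact (Nat.Prime 2) := ⟨Nat.prime_two⟩
  obtain ⟨L, hTL, hLn, hsimp, hna, hCb, htop⟩ := socle_top T hT hsq hO htr haT ha1 hns hbelow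
  haveI := hLn
  haveI := hsimp
  obtain ⟨F, i1, i2, E, E₀, h⟩ := htop a haT ha1
  set a' : L := ⟨a, hTL haT⟩ with ha'
  have habL : ∀ S : Sylow 2 L, IsMulCommutative (S : Subgroup L) := fun S => by
    obtain ⟨g, hg⟩ := MulAction.exists_smul_eq L S (T.subtype hTL)
    have hm : ∀ z : (S : Subgroup L), g * (z : L) * g⁻¹ ∈ T.subtype hTL := fun z => by
      show _ ∈ ((T.subtype hTL : Sylow 2 L) : Subgroup L)
      rw [← hg]; exact ⟨z, z.2, rfl⟩
    exact ⟨⟨fun x y => Subtype.ext (by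
      have h1 := (h.commute (hm x) (hm y)).map (MulAut.conj g⁻¹).toMonoidHom
      simpa [mul_assoc] using h1.eq)⟩⟩
  have hmaxC := AbCentMax.centralizer_isCoatom hna h.hyp habL
  have ho : Odd (Nat.card ↥R) := odd_card_pgroup hp hR
  set R' : Subgroup L := R.subgroupOf L with hR'
  have hR'p : IsPGroup p R' := hR.comap_of_injective _ L.subtype_injective
  have hnR' : centralizer ({a'} : Set L) ≤ normalizer (R' : Set L) := fun c hc => by
    have hcX : (c : X) ∈ normalizer (R : Set X) :=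
      hn (mem_cent.2 (congrArg Subtype.val (mem_cent.1 hc).eq))
    refine mem_normalizer_iff.2 fun y => ?_
    rw [mem_subgroupOf, mem_subgroupOf]
    push_cast
    exact mem_normalizer_iff.1 hcX _
  have hR'b : R' = ⊥ := by
    rcases eq_or_lt_of_le hnR' with e | e
    · refine (eq_bot_iff_forall _).2 fun y hy => h.odd_bot (N := R') (e ▸ le_normalizer)
        (fun g hg y hy => (mem_normalizer_iff.1 (e ▸ mem_cent.2 (h.hyp.comm g (h.hyp.le hg)).symm :
          g ∈ normalizer (R' : Set L)) y).1 hy)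
        (ho.of_dvd_nat (card_comap_dvd_of_injective R L.subtype L.subtype_injective)) hy
    · have htop := hmaxC.2 _ e
      haveI := normalizer_eq_top_iff.1 htop
      refine (IsSimpleGroup.eq_bot_or_eq_top_of_normal R' inferInstance).resolve_right fun e' => hna ?_
      haveI : Group.IsNilpotent R' := hR'p.isNilpotent
      haveI : Group.IsSolvable R' := inferInstance
      haveI : Group.IsSolvable L := by
        haveI : Group.IsSolvable (⊤ : Subgroup L) := e' ▸ (inferInstance : Group.IsSolvable R')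
        exact Group.isSolvable_of_surjective (f := (⊤ : Subgroup L).subtype) fun x => ⟨⟨x, mem_top x⟩, rfl⟩
      exact ⟨⟨IsSimpleGroup.comm_iff_isSolvable.2 inferInstance⟩⟩
  refine cent_core T hT hsq hO htr haT ha1 hns hbelow hA3 (fun r hr => ?_) hn ho
  have haC : a ∈ centralizer ({a} : Set X) := mem_centralizer_singleton_iff.2 rfl
  have h1 : (⟨a * r * a⁻¹ * r⁻¹, by
      rw [show a * r * a⁻¹ * r⁻¹ = a * (r * a⁻¹ * r⁻¹) by group]
      exact mul_mem (hTL haT) (hLn.conj_mem _ (inv_mem (hTL haT)) r)⟩ : L) ∈ R' :=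
    mem_subgroupOf.2 (mul_mem ((mem_normalizer_iff.1 (hn haC) r).1 hr) (inv_mem hr))
  rw [hR'b, mem_bot] at h1
  have h2 : a * r * a⁻¹ * r⁻¹ = 1 := congrArg Subtype.val h1
  exact mem_cent.2 (mul_inv_eq_iff_eq_mul.1 (mul_inv_eq_one.1 h2)).symm

end

end Cfsg.Lib.Walter.R3
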