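import Cfsg.Agent.Walter.RankThree.Setup

/-!
Walter, the branch of rank three: the normaliser of `ZJ` of a Sylow subgroup over the competitor covers.
-/

set_option autoImplicit false
set_option linter.unusedSectionVars false
set_option linter.style.haveILetI false

namespace Cfsg.Lib.Walter.R3

open Subgroup Cfsg.Lib.Coprime
open Cfsg.Lib.GW (Core core_le le_normalizer_core)

universe u

variable {G : Type u} [Group G] [Finite G] {S : Sylow 2 G} {a : G} {p : ℕ} [hp : Fact p.Prime]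
  {P P₀ : Subgroup G}

theorem sup_zj_cover (h : Top0 S a p P P₀) (hiso : Iso S a (normalizer (P₀ : Set G))) :
    ∃ Q : Subgroup G, IsPGroup p ↥Q ∧ P₀ ≤ Q ∧ Q ≤ normalizer (P₀ : Set G) ∧
      (∀ R : Subgroup G, Q ≤ R → R ≤ normalizer (P₀ : Set G) → IsPGroup p ↥R → R = Q) ∧
      (S : Subgroup G) ≤ normalizer (Cfsg.centerThompsonAOf Q : Set G) ∧
      Cov a (normalizer (Cfsg.centerThompsonAOf Q : Set G) ⊓ normalizer (P₀ : Set G)) := by
  classical
  haveI : Fact (Nat.Prime 2) := ⟨Nat.prime_two⟩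
  set H := normalizer (P₀ : Set G) with hH
  have hO := h.over
  have hTh := h.pt.env.three
  have hCo := Cfsg.Lib.GW.Frame.odd_card_core H
  have hp2 := h.pt.odd
  -- an `a`-invariant Sylow subgroup
  obtain ⟨Q₀⟩ : Nonempty (Sylow p ↥H) := inferInstance
  set K := Core H ⊔ (Q₀ : Subgroup ↥H).map H.subtype with hK
  have hQ₀H : (Q₀ : Subgroup ↥H).map H.subtype ≤ H := map_subtype_le _
  have hKH : K ≤ H := sup_le (core_le H) hQ₀H
  have hKo : Odd (Nat.card ↥K) := sup_odd (hQ₀H.trans (le_normalizer_core H)) hCo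
    (odd_card_pgroup hp2 (Q₀.2.map _))
  have haK : ∀ x ∈ K, a * x * a⁻¹ ∈ K := by
    intro x hx
    obtain ⟨k, hk, c, hc, hca, e⟩ := hO.factor hiso (hKH hx)
    have e1 : a * x * a⁻¹ = (a * k * a⁻¹) * k⁻¹ * x := by
      rw [e, show a * (k * c) * a⁻¹ = (a * k * a⁻¹) * (a * c * a⁻¹) by group, ← hca.eq, mul_inv_cancel_right]
      group
    rw [e1]
    exact mul_mem (mul_mem (mem_sup_left (core_norm hO.mem_H hk)) (mem_sup_left (inv_mem hk))) hx
  obtain ⟨T, hT⟩ := exists_invariant_sylow (A := zpowers a) (K := K)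
    (zpowers_le.2 (Cfsg.Lib.GW.mem_normalizer_finite haK)) (coprime_of_two hO.aa hKo)
    (Or.inl (zpowers_solvable a)) p
  set Q₁ := (T : Subgroup ↥K).map K.subtype with hQ₁
  have hQ₁H : Q₁ ≤ H := (map_subtype_le _).trans hKH
  have hQ₁card : Nat.card ↥(Q₁.subgroupOf H) = p ^ (Nat.card ↥H).factorization p := by
    rw [Nat.card_congr (subgroupOfEquivOfLe hQ₁H).toEquiv, ← Q₀.card_eq_multiplicity,
      ← card_map_of_injective H.subtype_injective (K := (Q₀ : Subgroup ↥H))]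
    exact le_antisymm (card_le_sylow Q₀ hQ₁H (T.2.map _)) (card_le_sylow T le_sup_right (Q₀.2.map _))
  set Q' : Sylow p ↥H := Sylow.ofCard (Q₁.subgroupOf H) hQ₁card with hQ'
  have hQ'map : (Q' : Subgroup ↥H).map H.subtype = Q₁ := by
    rw [hQ', Sylow.coe_ofCard, map_subgroupOf_eq_of_le hQ₁H]
  have haQ : a ∈ normalizer (Q₁ : Set G) := hT (mem_zpowers a)
  set Z₁ := Cfsg.centerThompsonAOf Q₁ with hZ₁
  have haZ : a ∈ normalizer (Z₁ : Set G) := normalizer_le_normalizer_zj Q₁ haQ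
  -- the factorisation
  have hab : ∀ T' : Sylow 2 ↥H, ∀ x ∈ T', ∀ y ∈ T', x * y = y * x := fun T' x hx y hy => by
    obtain ⟨g, hg⟩ := MulAction.exists_smul_eq ↥H T' (S.subtype hO.le)
    have hm : ∀ z ∈ T', ((g * z * g⁻¹ : ↥H) : G) ∈ (S : Subgroup G) := fun z hz => by
      have : g * z * g⁻¹ ∈ ((S.subtype hO.le : Sylow 2 ↥H) : Subgroup ↥H) := by rw [← hg]; exact ⟨z, hz, rfl⟩
      exact mem_subgroupOf.1 this
    have h1 : Commute (g * x * g⁻¹) (g * y * g⁻¹) :=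
      Subtype.ext (comm_of_sq (T := (S : Subgroup G)) hTh.sq (hm x hx) (hm y hy)).eq
    simpa [mul_assoc] using (h1.map (MulAut.conj g⁻¹).toMonoidHom).eq
  set P' := P₀.subgroupOf H with hP'
  haveI : P'.Normal := Subgroup.normal_in_normalizer
  have hP'p : IsPGroup p ↥P' := h.good.2.1.comap_of_injective _ H.subtype_injective
  have hP'core : P' ≤ Cfsg.pCore p ↥H := Cfsg.Lib.Components.le_pCore hP'p
  have hcent : ∀ d ∈ centralizer (P₀ : Set G), d ∈ Core H ⊔ zpowers a := fun d hd => by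
    rcases h.cent_core hiso hd with e | e
    · exact mem_sup_left e
    · have : a * (a * d) ∈ Core H ⊔ zpowers a := mul_mem (mem_sup_right (mem_zpowers a)) (mem_sup_left e)
      rwa [← mul_assoc, hO.aa, one_mul] at this
  have hsolv : Group.IsSolvable ↥(centralizer (Cfsg.pCore p ↥H : Set ↥H)) := by
    haveI : Group.IsSolvable ↥(Core H ⊔ zpowers a) :=
      Cfsg.Lib.Signalizer.isSolvable_sup (zpowers_le.2 (le_normalizer_core H hO.mem_H))
        (Cfsg.Agent.PF.isSolvable_of_odd _ hCo) (zpowers_solvable a)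
    have hmem : ∀ d : ↥(centralizer (Cfsg.pCore p ↥H : Set ↥H)), ((d : ↥H) : G) ∈ Core H ⊔ zpowers a :=
      fun d => hcent _ (mem_centralizer_iff.2 fun x hx => congrArg Subtype.val
        (mem_centralizer_iff.1 d.2 (⟨x, le_normalizer hx⟩ : ↥H) (hP'core (mem_subgroupOf.2 hx))))
    exact Group.isSolvable_of_isSolvable_injective (f := MonoidHom.mk'
      (fun d => (⟨_, hmem d⟩ : ↥(Core H ⊔ zpowers a))) fun _ _ => rfl)
      fun x y e => Subtype.ext (Subtype.ext (congrArg (fun w : ↥(Core H ⊔ zpowers a) => (w : G)) e))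
  have hsup := sup_normalizer_zj hp2 hab hsolv Q'
  have hZmap : (Cfsg.centerThompsonAOf (Q' : Subgroup ↥H)).map H.subtype = Z₁ := by
    rw [Cfsg.Lib.ZJ.centerThompsonAOf_map_injOn H.subtype_injective.injOn, hQ'map]
  have hdisj : Cfsg.pPrimeCore p ↥H ⊓ P' = ⊥ := by
    refine Cfsg.Lib.Coprime.inf_eq_bot_of_coprime ?_
    obtain ⟨k, hk⟩ := IsPGroup.iff_card.1 hP'p
    rw [hk]
    exact Nat.Coprime.pow_right k (Cfsg.Lib.Components.coprime_card_pPrimeCore p)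
  have hdec : ∀ x ∈ H, ∃ k ∈ Core H, ∃ n ∈ H, n ∈ normalizer (Z₁ : Set G) ∧ x = k * n := by
    intro x hx
    have hx' : (⟨x, hx⟩ : ↥H) ∈ Cfsg.pPrimeCore p ↥H ⊔
        normalizer (Cfsg.centerThompsonAOf (Q' : Subgroup ↥H) : Set ↥H) := hsup ▸ mem_top _
    obtain ⟨o, ho, n, hn, e⟩ := mem_sup_of_normal_left.1 hx'
    have hnZ : (n : G) ∈ normalizer (Z₁ : Set G) := Cfsg.Lib.GW.mem_normalizer_finite fun z hz => by
      rw [← hZmap] at hz ⊢
      obtain ⟨w, hw, rfl⟩ := hz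
      exact ⟨n * w * n⁻¹, (mem_normalizer_iff.1 hn w).1 hw, rfl⟩
    have hoc : (o : G) ∈ centralizer (P₀ : Set G) := mem_centralizer_iff.2 fun y hy => by
      have h1 : o * ⟨y, le_normalizer hy⟩ * o⁻¹ * (⟨y, le_normalizer hy⟩ : ↥H)⁻¹ ∈
          Cfsg.pPrimeCore p ↥H ⊓ P' := by
        refine mem_inf.2 ⟨?_, ?_⟩
        · rw [show o * ⟨y, le_normalizer hy⟩ * o⁻¹ * (⟨y, le_normalizer hy⟩ : ↥H)⁻¹ =
            o * (⟨y, le_normalizer hy⟩ * o⁻¹ * (⟨y, le_normalizer hy⟩ : ↥H)⁻¹) by group]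
          exact mul_mem ho ((inferInstance : (Cfsg.pPrimeCore p ↥H).Normal).conj_mem _ (inv_mem ho) _)
        · exact mul_mem ((inferInstance : P'.Normal).conj_mem _ (mem_subgroupOf.2 hy) o)
            (inv_mem (mem_subgroupOf.2 hy))
      rw [hdisj, mem_bot, mul_inv_eq_one, mul_inv_eq_iff_eq_mul] at h1
      exact (congrArg Subtype.val h1).symm
    have e' : x = (o : G) * n := (congrArg Subtype.val e).symm
    rcases h.cent_core hiso hoc with eo | eo
    · exact ⟨o, eo, n, n.2, hnZ, e'⟩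
    · refine ⟨a * (a * o) * a⁻¹, core_norm hO.mem_H eo, a * n, mul_mem hO.mem_H n.2, mul_mem haZ hnZ, ?_⟩
      rw [e', ← mul_assoc a a, hO.aa, one_mul]
      group
  -- move `S` into the normaliser
  set N₁ := normalizer (Z₁ : Set G) ⊓ H with hN₁
  obtain ⟨T₂⟩ : Nonempty (Sylow 2 ↥N₁) := inferInstance
  have hT8 : Nat.card ↥(S : Subgroup G) ∣ Nat.card ↥N₁ := by
    have hn : N₁ ≤ normalizer (Core H : Set G) := inf_le_right.trans (le_normalizer_core H)
    have h1 : Core H ⊔ N₁ = H := le_antisymm (sup_le (core_le H) inf_le_right) fun x hx => by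
      obtain ⟨k, hk, n, hn', hnZ, rfl⟩ := hdec x hx
      exact mul_mem_sup hk (mem_inf.2 ⟨hnZ, hn'⟩)
    have h2 := card_sup_mul_card_inf hn
    rw [h1] at h2
    have h3 : Nat.card ↥(S : Subgroup G) ∣ Nat.card ↥(Core H) * Nat.card ↥N₁ :=
      h2 ▸ (card_dvd_of_le hO.le).trans (dvd_mul_right _ _)
    exact (coprime_sylow hTh hCo).dvd_of_dvd_mul_left h3
  have hT₂ : Nat.card ↥((T₂ : Subgroup ↥N₁).map N₁.subtype) = Nat.card ↥(S : Subgroup G) := by
    refine le_antisymm ?_ ?_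
    · obtain ⟨U, hU⟩ := (T₂.2.map N₁.subtype).exists_le_sylow
      exact (card_le_of_le hU).trans (U.card_eq_multiplicity.trans S.card_eq_multiplicity.symm).le
    · rw [card_map_of_injective N₁.subtype_injective]
      refine Nat.le_of_dvd Nat.card_pos ?_
      have h8 : Nat.card ↥(S : Subgroup G) = 2 ^ 3 := hTh.card
      rw [h8] at hT8 ⊢
      exact T₂.pow_dvd_card_of_pow_dvd_card hT8
  have hT₂H : (T₂ : Subgroup ↥N₁).map N₁.subtype ≤ H := (map_subtype_le _).trans inf_le_right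
  have hcard2 : Nat.card ↥(((T₂ : Subgroup ↥N₁).map N₁.subtype).subgroupOf H) =
      2 ^ (Nat.card ↥H).factorization 2 := by
    rw [Nat.card_congr (subgroupOfEquivOfLe hT₂H).toEquiv, hT₂,
      ← Nat.card_congr (subgroupOfEquivOfLe hO.le).toEquiv]
    exact (S.subtype hO.le).card_eq_multiplicity
  obtain ⟨g, hg⟩ := MulAction.exists_smul_eq ↥H (Sylow.ofCard _ hcard2) (S.subtype hO.le)
  obtain ⟨k₀, hk₀, n₀, hn₀, hn₀Z, hgk⟩ := hdec g g.2
  have hgS : ∀ s ∈ S, k₀⁻¹ * s * k₀ ∈ normalizer (Z₁ : Set G) := by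
    intro s hs
    have : (⟨s, hO.le hs⟩ : ↥H) ∈ ((g • Sylow.ofCard _ hcard2 : Sylow 2 ↥H) : Subgroup ↥H) := by
      rw [hg]; exact mem_subgroupOf.2 hs
    obtain ⟨w, hw, e⟩ := this
    have e' : s = (g : G) * w * (g : G)⁻¹ := (congrArg Subtype.val e).symm
    have hwN : (w : G) ∈ normalizer (Z₁ : Set G) := by
      obtain ⟨v, -, ev⟩ := mem_subgroupOf.1 (show w ∈ ((T₂ : Subgroup ↥N₁).map N₁.subtype).subgroupOf H from hw)
      rw [← ev]
      exact (mem_inf.1 v.2).1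
    rw [e', hgk, show k₀⁻¹ * (k₀ * n₀ * (w : G) * (k₀ * n₀)⁻¹) * k₀ = n₀ * w * n₀⁻¹ by group]
    exact mul_mem (mul_mem hn₀Z hwN) (inv_mem hn₀Z)
  set Q := conjMap k₀ Q₁ with hQ
  have hk₀H : k₀ ∈ H := core_le H hk₀
  have hQH : Q ≤ H := fun x hx => by
    have := mul_mem (mul_mem hk₀H (hQ₁H (mem_conjMap.1 hx))) (inv_mem hk₀H)
    rwa [show k₀ * (k₀⁻¹ * x * k₀) * k₀⁻¹ = x by group] at this
  have hQp : IsPGroup p ↥Q := (T.2.map _).map _
  set Z := Cfsg.centerThompsonAOf Q with hZ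
  have hZeq : Z = conjMap k₀ Z₁ := by
    rw [hZ, hZ₁, hQ]
    exact (Cfsg.Lib.ZJ.centerThompsonAOf_map_injOn (MulAut.conj k₀).injective.injOn).symm
  have hNZ : ∀ x, k₀⁻¹ * x * k₀ ∈ normalizer (Z₁ : Set G) → x ∈ normalizer (Z : Set G) := fun x hx => by
    rw [hZeq, normalizer_conjMap, mem_conjMap]
    exact hx
  have hSZ : (S : Subgroup G) ≤ normalizer (Z : Set G) := fun s hs => hNZ s (hgS s hs)
  have hdec' : ∀ x ∈ H, ∃ k ∈ Core H, ∃ n ∈ H, n ∈ normalizer (Z : Set G) ∧ x = k * n := by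
    intro x hx
    obtain ⟨k, hk, n, hn, hnZ, e⟩ := hdec (k₀⁻¹ * x * k₀) (mul_mem (mul_mem (inv_mem hk₀H) hx) hk₀H)
    refine ⟨k₀ * k * k₀⁻¹, core_norm hk₀H hk, k₀ * n * k₀⁻¹, mul_mem (mul_mem hk₀H hn) (inv_mem hk₀H),
      hNZ _ ?_, ?_⟩
    · rwa [show k₀⁻¹ * (k₀ * n * k₀⁻¹) * k₀ = n by group]
    · rw [show k₀ * k * k₀⁻¹ * (k₀ * n * k₀⁻¹) = k₀ * (k * n) * k₀⁻¹ by group, ← e]; group
  have hQmax : ∀ R : Subgroup G, Q ≤ R → R ≤ H → IsPGroup p ↥R → R = Q := fun R hQR hRH hRp =>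
    (eq_of_le_of_card_ge hQR ((card_le_sylow Q' hRH hRp).trans (by
      rw [hQ'map, hQ, card_conjMap]))).symm
  refine ⟨Q, hQp, ?_, hQH, hQmax, hSZ, ?_⟩
  · -- the normal `p`-subgroup lies in every Sylow subgroup
    have hle : P₀ ⊔ Q ≤ H := sup_le le_normalizer hQH
    have := hQmax _ le_sup_right hle (h.good.2.1.to_sup_of_normal_left' hQp hQH)
    exact this ▸ le_sup_left
  · intro x hx
    obtain ⟨o, ho, c, hc, hca, rfl⟩ := hO.cov x hx
    obtain ⟨k, hk, n, hn, hnZ, e⟩ := hdec' c hc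
    set D := Core H ⊓ normalizer (Z : Set G) with hD
    have haZ' : a ∈ normalizer (Z : Set G) := hSZ h.pt.mem
    obtain ⟨d, hd, hda⟩ := exists_commute_mul hO.aa (hCo.of_dvd_nat (card_dvd_of_le inf_le_left))
      (fun d hd => mem_inf.2 ⟨core_norm hO.mem_H (mem_inf.1 hd).1,
        mul_mem (mul_mem haZ' (mem_inf.1 hd).2) (inv_mem haZ')⟩) (k := n) (mem_inf.2 ⟨by
          have e1 : n⁻¹ * a * n * a⁻¹ = c⁻¹ * (k * (a * k⁻¹ * a⁻¹)) * c⁻¹⁻¹ := by
            rw [show n = k⁻¹ * c by rw [e, inv_mul_cancel_left],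
              show (k⁻¹ * c)⁻¹ * a * (k⁻¹ * c) * a⁻¹ = c⁻¹ * (k * (a * k⁻¹ * a⁻¹)) * (a * c * a⁻¹) by group,
              ← hca.eq, mul_inv_cancel_right, inv_inv]
          rw [e1]
          exact core_norm (inv_mem hc) (mul_mem hk (core_norm hO.mem_H (inv_mem hk))),
        mul_mem (mul_mem (mul_mem (inv_mem hnZ) haZ') hnZ) (inv_mem haZ')⟩)
    have hy : c * (n * d)⁻¹ ∈ Core H := by
      rw [e, show k * n * (n * d)⁻¹ = k * (n * d⁻¹ * n⁻¹) by group]
      exact mul_mem hk (core_norm hn (inv_mem (mem_inf.1 hd).1))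
    refine ⟨o * (c * (n * d)⁻¹), mul_mem ho (hO.cov.core_inf_le hy (hca.mul_left hda.inv_left)), n * d,
      mem_inf.2 ⟨mul_mem hnZ (mem_inf.1 hd).2, mul_mem hn (core_le H (mem_inf.1 hd).1)⟩, hda, ?_⟩
    group

end Cfsg.Lib.Walter.R3
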