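import Cfsg.Agent.Walter.RankThree.Cover
import Cfsg.Agent.Components.ZJ.Closed

/-!
Walter, the branch of rank three: the competitor meets every involution centraliser inside the odd core.
-/

set_option autoImplicit false
set_option linter.unusedSectionVars false
set_option linter.style.haveILetI false

namespace Cfsg.Lib.Walter.R3

open Subgroup Cfsg.Lib.Coprime
open Cfsg.Lib.GW (Core core_le le_normalizer_core)

universe u

variable {G : Type u} [Group G] [Finite G] {S : Sylow 2 G} {a : G} {p : ℕ} [hp : Fact p.Prime]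
  {P P₀ : Subgroup G}

/-- a subgroup covering a quotient with a full Sylow subgroup of the kernel holds every `p`-element up to
conjugacy -/
theorem exists_conj_into {C N K : Subgroup G} (hKC : K ≤ C) (hn : C ≤ normalizer (N : Set G)) (hNC : N ≤ C)
    (hcov : ∀ x ∈ C, ∃ n ∈ N, ∃ k ∈ K, x = n * k) {P : Subgroup G} (hPK : P ≤ K) (hPN : P ≤ N)
    (hP : IsPGroup p ↥P) (hmax : ∀ R : Subgroup G, P ≤ R → R ≤ N → IsPGroup p ↥R → R = P) {y : G}
    (hy : y ∈ C) (hyp : IsPGroup p ↥(zpowers y)) : ∃ c ∈ C, c * y * c⁻¹ ∈ K := by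
  have hKn : K ≤ normalizer (N : Set G) := hKC.trans hn
  have hsup : N ⊔ K = C := le_antisymm (sup_le hNC hKC) fun x hx => by
    obtain ⟨n, hn', k, hk, rfl⟩ := hcov x hx
    exact mul_mem_sup hn' hk
  have hcard := card_sup_mul_card_inf hKn
  rw [hsup] at hcard
  -- the intersection has a full Sylow subgroup of the kernel
  have hP' : Nat.card ↥P = p ^ (Nat.card ↥N).factorization p := by
    obtain ⟨U, hU⟩ := (hP.of_equiv (subgroupOfEquivOfLe hPN).symm).exists_le_sylow
    have hUP : (U : Subgroup ↥N).map N.subtype = P := by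
      refine hmax _ ?_ (map_subtype_le _) (U.2.map _)
      rw [← map_subgroupOf_eq_of_le hPN]; exact map_mono hU
    rw [← hUP, card_map_of_injective N.subtype_injective, U.card_eq_multiplicity]
  have hinf : (Nat.card ↥(N ⊓ K)).factorization p = (Nat.card ↥N).factorization p := by
    refine le_antisymm ?_ ?_
    · exact (Nat.factorization_le_iff_dvd Nat.card_pos.ne' Nat.card_pos.ne').2
        (card_dvd_of_le inf_le_left) p
    · have h1 : Nat.card ↥P ∣ Nat.card ↥(N ⊓ K) := card_dvd_of_le (le_inf hPN hPK)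
      rw [hP'] at h1
      exact (hp.out.pow_dvd_iff_le_factorization Nat.card_pos.ne').1 h1
  have hKC' : (Nat.card ↥K).factorization p = (Nat.card ↥C).factorization p := by
    have h1 := congrArg (fun n => n.factorization p) hcard
    simp only [Nat.factorization_mul Nat.card_pos.ne' Nat.card_pos.ne', Finsupp.coe_add, Pi.add_apply] at h1
    omega
  obtain ⟨R⟩ : Nonempty (Sylow p ↥K) := inferInstance
  have hRC : (R : Subgroup ↥K).map K.subtype ≤ C := (map_subtype_le _).trans hKC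
  have hR : Nat.card ↥(((R : Subgroup ↥K).map K.subtype).subgroupOf C) = p ^ (Nat.card ↥C).factorization p := by
    rw [Nat.card_congr (subgroupOfEquivOfLe hRC).toEquiv, card_map_of_injective K.subtype_injective,
      R.card_eq_multiplicity, hKC']
  obtain ⟨U, hU⟩ := (hyp.of_equiv (subgroupOfEquivOfLe (zpowers_le.2 hy)).symm).exists_le_sylow
  obtain ⟨c, hc⟩ := MulAction.exists_smul_eq ↥C U (Sylow.ofCard _ hR)
  have hmem : c * ⟨y, hy⟩ * c⁻¹ ∈ ((Sylow.ofCard _ hR : Sylow p ↥C) : Subgroup ↥C) := by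
    rw [← hc]; exact ⟨_, hU (mem_subgroupOf.2 (mem_zpowers y)), rfl⟩
  rw [Sylow.coe_ofCard] at hmem
  exact ⟨c, c.2, map_subtype_le _ (mem_subgroupOf.1 hmem)⟩

/-- KEY: the competitor stays inside the odd cores -/
theorem Top0.key (h : Top0 S a p P P₀) {x : G} (hx : x ∈ P₀) {v : G} (hv : v ∈ S) (hv1 : v ≠ 1)
    (hxv : Commute x v) : x ∈ Oc v := by
  haveI : Fact (Nat.Prime 2) := ⟨Nat.prime_two⟩
  by_contra hxO
  set H := normalizer (P₀ : Set G) with hH
  have hTh := h.pt.env.three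
  have hm := h.pt.env.min
  have hiso : Iso S a H := by
    by_contra hn
    exact hxO ((h.over.over_all hn hv hv1).cov.core_inf_le (h.le_core hx) hxv)
  obtain ⟨Q, hQp, hPQ, hQH, hQmax, hSZ, hcov⟩ := sup_zj_cover h hiso
  set H₁ := normalizer (Cfsg.centerThompsonAOf Q : Set G) with hH₁
  have hQne : Q ≠ ⊥ := fun e => h.ne_bot (le_bot_iff.1 (e ▸ hPQ))
  have hZp : IsPGroup p ↥(Cfsg.centerThompsonAOf Q) :=
    hQp.to_le ((inf_le_left : Cfsg.centerThompsonAOf Q ≤ Cfsg.thompsonSubgroupAOf Q).trans (map_subtype_le _))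
  have hO1 : Over S a H₁ := ⟨h.pt.env,
    proper_normalizer hm hZp (Cfsg.Lib.ZJ.centerThompsonAOf_ne_bot hQp hQne), hSZ, h.pt.mem, h.pt.ne_one,
    hcov.mono inf_le_left⟩
  have hQH₁ : Q ≤ H₁ := le_normalizer.trans (normalizer_le_normalizer_zj Q)
  have hP1 : P₀ ≤ Core H₁ :=
    hO1.pgroup_core h.pt.odd (hPQ.trans hQH₁) h.good.2.1 (by rwa [inf_comm] at hcov)
  -- `Q` is a maximal `p`-subgroup of `G`
  have hQG : ∀ R : Subgroup G, Q ≤ R → IsPGroup p ↥R → R = Q := by
    intro R hQR hRp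
    by_contra hne
    haveI := hRp.isNilpotent
    obtain ⟨z, hzn, hzQ⟩ := SetLike.exists_of_lt (Group.normalizerCondition_of_isNilpotent (G := ↥R)
      (Q.subgroupOf R) (lt_top_iff_ne_top.mpr fun e => hne (le_antisymm (subgroupOf_eq_top.mp e) hQR)))
    rw [← subgroupOf_normalizer_eq hQR] at hzn
    set R' := R ⊓ normalizer (Q : Set G) with hR'
    have hR'1 : R' ≤ H₁ := inf_le_right.trans (normalizer_le_normalizer_zj Q)
    have hR'p : IsPGroup p ↥R' := hRp.to_le inf_le_left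
    have hR'C : R' ⊓ Core H₁ = P₀ :=
      h.max_core hO1 hP1 (le_inf ((hPQ.trans (le_inf hQR le_normalizer))) hP1) inf_le_right
        (hR'p.to_le inf_le_left)
    have hR'H : R' ≤ H := by
      rw [hH, ← hR'C]
      exact le_normalizer_inf le_normalizer (hR'1.trans (le_normalizer_core H₁))
    have := hQmax R' (le_inf hQR le_normalizer) hR'H hR'p
    exact hzQ (mem_subgroupOf.2 (this ▸ mem_inf.2 ⟨z.2, hzn⟩))
  obtain ⟨Qs, hQs⟩ := hQp.exists_le_sylow
  have hQs' : (Qs : Subgroup G) = Q := hQG _ hQs Qs.2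
  -- a conjugate of `x` in `C(a)` outside the core
  obtain ⟨n, -, hn⟩ := hTh.trans v hv a h.pt.mem hv1 h.pt.ne_one
  set y := n * x * n⁻¹ with hy
  have hya : Commute y a := by rw [← hn, hy]; exact hxv.map (MulAut.conj n).toMonoidHom
  have hyO : y ∉ Oc a := by rw [← hn, hy]; exact fun e => hxO (conj_mem_oc_iff.1 e)
  have hyp : IsPGroup p ↥(zpowers y) := by
    have h1 := (h.good.2.1.to_le (zpowers_le.2 hx)).map (MulAut.conj n).toMonoidHom
    rwa [MonoidHom.map_zpowers] at h1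
  obtain ⟨c, hc, hcy⟩ := exists_conj_into (C := centralizer ({a} : Set G)) (N := Oc a)
    (K := H₁ ⊓ centralizer ({a} : Set G)) inf_le_right (oc_norm a)
    (Cfsg.Lib.Components.centralizerPPrimeCore_le_centralizer a)
    (fun z hz => by
      obtain ⟨o, ho, k, hk, hka, e⟩ := hO1.cov z (mem_cent.1 hz)
      exact ⟨o, ho, k, mem_inf.2 ⟨hk, mem_cent.2 hka⟩, e⟩)
    (le_inf (h.good.1.trans (hPQ.trans hQH₁)) (h.pt.le.trans
      (Cfsg.Lib.Components.centralizerPPrimeCore_le_centralizer a))) h.pt.le h.pt.pgroup h.pt.max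
    (mem_cent.2 hya) hyp
  set y' := c * y * c⁻¹ with hy'
  have hy'O : y' ∉ Oc a := fun e => hyO (by
    have hc' := mem_cent.1 hc
    have := (mem_normalizer_iff.1 (oc_norm a hc) y).2 e
    exact this)
  have hy'p : IsPGroup p ↥(zpowers (⟨y', (mem_inf.1 hcy).1⟩ : ↥H₁)) := by
    have h1 := hyp.map (MulAut.conj c).toMonoidHom
    rw [MonoidHom.map_zpowers, show (MulAut.conj c).toMonoidHom y = y' from rfl] at h1
    have h2 := h1.comap_of_injective H₁.subtype H₁.subtype_injective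
    exact h2.to_le (zpowers_le.2 (mem_subgroupOf.2 (mem_zpowers y')))
  obtain ⟨U, hU⟩ := hy'p.exists_le_sylow
  obtain ⟨g, hg⟩ := MulAction.exists_smul_eq ↥H₁ U (Qs.subtype (hQs'.le.trans hQH₁))
  set y'' := (g : G) * y' * (g : G)⁻¹ with hy''
  have hy''Q : y'' ∈ Q := by
    have : g * ⟨y', (mem_inf.1 hcy).1⟩ * g⁻¹ ∈ ((Qs.subtype (hQs'.le.trans hQH₁) : Sylow p ↥H₁) : Subgroup ↥H₁) := by
      rw [← hg]; exact ⟨_, hU (mem_zpowers _), rfl⟩
    have h2 := mem_subgroupOf.1 this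
    rwa [hQs'] at h2
  -- fusion inside `N(ZJ Q)` keeps the core
  have hxy : ∃ w : G, w * x * w⁻¹ = y'' := ⟨(g : G) * c * n, by rw [hy'', hy', hy]; group⟩
  obtain ⟨w, hw⟩ := hxy
  obtain ⟨m, hm', hme⟩ := Cfsg.Lib.GW.zj_fusion h.pt.odd hm.ab Qs (A := {x})
    (Set.singleton_subset_iff.2 (by rw [hQs']; exact hPQ hx)) (g := w)
    (fun z hz => by rw [Set.mem_singleton_iff.1 hz, hw, hQs']; exact hy''Q)
  rw [hQs'] at hm'
  have h1 : y'' ∈ Core H₁ := by
    rw [← hw, ← hme x rfl]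
    exact core_norm hm' (hP1 hx)
  have h2 : y' ∈ Core H₁ := (mem_normalizer_iff.1 (le_normalizer_core H₁ g.2) y').2 h1
  exact hy'O (hO1.cov.core_inf_le h2 (mem_cent.1 (mem_inf.1 hcy).2))

end Cfsg.Lib.Walter.R3
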