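import Cfsg.Agent.Walter.RankThree.Pull
import Cfsg.Agent.Walter.RankThree.CoreFree
import Cfsg.Agent.Components.Signalizer.Basic
import Cfsg.Agent.S0215

/-!
Walter, the branch of rank three: proper subgroups over `S` covering an involution centraliser.
-/

set_option autoImplicit false
set_option linter.unusedSectionVars false
set_option linter.style.haveILetI false

namespace Cfsg.Lib.Walter.R3

open Subgroup Cfsg.Lib.Coprime
open Cfsg.Lib.GW (Core core_le le_normalizer_core)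

universe u

variable {G : Type u} [Group G] [Finite G]

/-- The standing hypotheses. -/
structure Env (S : Sylow 2 G) : Prop where
  min : Min G
  three : Three S
  a3 : A3Spec

/-- A proper subgroup over `S` covering `C(a)`. -/
structure Over (S : Sylow 2 G) (a : G) (H : Subgroup G) : Prop where
  env : Env S
  proper : H ≠ ⊤
  le : (S : Subgroup G) ≤ H
  mem : a ∈ S
  ne_one : a ≠ 1
  cov : Cov a H

variable {S : Sylow 2 G} {a : G} {H : Subgroup G}

theorem Over.sq (h : Over S a H) {x : G} (hx : x ∈ S) : x * x = 1 := h.env.three.sq x hx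

theorem Over.aa (h : Over S a H) : a * a = 1 := h.sq h.mem

theorem Over.mem_H (h : Over S a H) : a ∈ H := h.le h.mem

theorem core_norm {H : Subgroup G} {g x : G} (hg : g ∈ H) (hx : x ∈ Core H) : g * x * g⁻¹ ∈ Core H :=
  (mem_normalizer_iff.1 (le_normalizer_core H hg) x).1 hx

/-- the involution is central modulo the core -/
def Iso (S : Sylow 2 G) (a : G) (H : Subgroup G) : Prop :=
  ∀ n ∈ H, (∀ x ∈ S, n * x * n⁻¹ ∈ S) → n * a * n⁻¹ = a

theorem Over.factor (h : Over S a H) (hiso : Iso S a H) {x : G} (hx : x ∈ H) :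
    ∃ k ∈ Core H, ∃ c ∈ H, Commute c a ∧ x = k * c := by
  haveI : Fact (Nat.Prime 2) := ⟨Nat.prime_two⟩
  set SH : Sylow 2 H := S.subtype h.le with hSH
  have hab : ∀ y ∈ (SH : Subgroup H), ∀ z ∈ (SH : Subgroup H), y * z = z * y := fun y hy z hz =>
    Subtype.ext (comm_of_sq (T := (S : Subgroup G)) h.env.three.sq (mem_subgroupOf.1 hy) (mem_subgroupOf.1 hz)).eq
  obtain ⟨N, hN, hNo, hcomm⟩ := Cfsg.Agent.S0215.result SH (⟨a, h.mem_H⟩ : H)
    (by rw [orderOf_mk]; exact order_two (T := (S : Subgroup G)) h.env.three.sq h.mem h.ne_one)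
    (mem_subgroupOf.2 h.mem) (fun g hg => by
      obtain ⟨n, hn, e⟩ := Cfsg.Lib.BenderSE.Ring2.fusion_abelian SH hab (mem_subgroupOf.2 h.mem) hg rfl
      rw [← e]
      refine Subtype.ext (hiso n n.2 fun y hy => ?_)
      have := (mem_normalizer_iff.1 hn ⟨y, h.le hy⟩).1 (mem_subgroupOf.2 hy)
      exact mem_subgroupOf.1 this)
  have hNc : N.map H.subtype ≤ Core H := map_mono (@Cfsg.Lib.Components.le_pPrimeCore _ _ 2 N hN
    (Nat.coprime_two_right.2 hNo))
  have hk : x⁻¹ * a * x * a⁻¹ ∈ Core H := by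
    have h1 : a * x * a⁻¹ * x⁻¹ ∈ Core H := hNc ⟨_, hcomm ⟨x, hx⟩, rfl⟩
    have := core_norm (inv_mem hx) h1
    rwa [show x⁻¹ * (a * x * a⁻¹ * x⁻¹) * x⁻¹⁻¹ = x⁻¹ * a * x * a⁻¹ by group] at this
  obtain ⟨d, hd, hc⟩ := exists_commute_mul h.aa (Cfsg.Lib.GW.Frame.odd_card_core H)
    (fun d hd => core_norm h.mem_H hd) hk
  exact ⟨x * d⁻¹ * x⁻¹, core_norm hx (inv_mem hd), x * d, mul_mem hx (core_le H hd), hc, by group⟩

theorem Over.transitive (h : Over S a H) (hniso : ¬ Iso S a H) {v : G} (hv : v ∈ S) (hv1 : v ≠ 1) :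
    ∃ n ∈ H, (∀ x ∈ S, n * x * n⁻¹ ∈ S) ∧ n * a * n⁻¹ = v := by
  classical
  haveI : Fact (Nat.Prime 2) := ⟨Nat.prime_two⟩
  obtain ⟨σ, hσH, hσa, hσS, hσm⟩ := cent_mover h.env.three h.mem h.ne_one h.le h.cov
  set K : Subgroup G := H ⊓ normalizer ((S : Subgroup G) : Set G) with hK
  letI : MulAction K G := MulAction.compHom G (MulAut.conj.comp K.subtype)
  have hsmul : ∀ (k : K) (y : G), k • y = (k : G) * y * (k : G)⁻¹ := fun k y => rfl
  have hnS : ∀ k : K, ∀ y ∈ S, (k : G) * y * (k : G)⁻¹ ∈ S := fun k y hy =>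
    (mem_normalizer_iff.1 (mem_inf.1 k.2).2 y).1 hy
  have hnK : ∀ n ∈ H, (∀ y ∈ S, n * y * n⁻¹ ∈ S) → n ∈ K := fun n hn hnS' =>
    mem_inf.2 ⟨hn, Cfsg.Lib.GW.mem_normalizer_finite hnS'⟩
  set σ' : K := ⟨σ, hnK σ hσH hσS⟩ with hσ'
  haveI := Fintype.ofFinite G
  set O : Finset G := Finset.univ.filter (fun y => y ∈ MulAction.orbit K a) with hO
  have hmemO : ∀ y, y ∈ O ↔ y ∈ MulAction.orbit K a := fun y => by simp [hO]
  have hOS : ∀ y ∈ O, y ∈ S ∧ y ≠ 1 := fun y hy => by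
    obtain ⟨k, rfl⟩ := (hmemO y).1 hy
    refine ⟨hnS k a h.mem, fun e => h.ne_one ?_⟩
    exact conj_eq_one_iff.1 e
  have hOσ : ∀ y ∈ O, σ * y * σ⁻¹ ∈ O := fun y hy => by
    obtain ⟨k, rfl⟩ := (hmemO y).1 hy
    refine (hmemO _).2 ⟨σ' * k, ?_⟩
    show (σ' * k) • a = _
    rw [mul_smul]
    rfl
  have hodd : Odd O.card := by
    have h1 : O.card = (MulAction.stabilizer K a).index := by
      rw [MulAction.index_stabilizer, Set.ncard_eq_toFinset_card', hO]
      congr 1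
      ext y
      simp
    rw [h1]
    have hle : (S : Subgroup G).subgroupOf K ≤ MulAction.stabilizer K a := fun k hk => by
      show k • a = a
      rw [hsmul, (comm_of_sq (T := (S : Subgroup G)) h.env.three.sq (mem_subgroupOf.1 hk) h.mem).eq,
        mul_inv_cancel_right]
    refine Odd.of_dvd_nat ?_ (index_dvd_of_le hle)
    rw [← Nat.not_even_iff_odd, even_iff_two_dvd]
    exact (S.subtype (le_inf h.le le_normalizer)).not_dvd_index
  obtain ⟨n₀, hn₀, hn₀S, hn₀a⟩ : ∃ n ∈ H, (∀ x ∈ S, n * x * n⁻¹ ∈ S) ∧ n * a * n⁻¹ ≠ a := by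
    simpa [Iso] using hniso
  set x₁ := n₀ * a * n₀⁻¹ with hx₁
  have hx₁O : x₁ ∈ O := (hmemO _).2 ⟨⟨n₀, hnK n₀ hn₀ hn₀S⟩, rfl⟩
  have haO : a ∈ O := (hmemO _).2 (MulAction.mem_orbit_self a)
  have hfix : σ * a * σ⁻¹ = a := by rw [hσa.eq, mul_inv_cancel_right]
  have hne : ∀ y ∈ S, y ≠ 1 → y ≠ a → ({a, y, σ * y * σ⁻¹, σ * (σ * y * σ⁻¹) * σ⁻¹} : Finset G).card = 4 := by
    intro y hy hy1 hya
    obtain ⟨m1, m2⟩ := hσm y hy hy1 hya
    have hinj : ∀ p q : G, σ * p * σ⁻¹ = σ * q * σ⁻¹ → p = q := fun p q e => mul_left_cancel (mul_right_cancel e)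
    have e1 : σ * y * σ⁻¹ ≠ a := fun e => hya (hinj _ _ (e.trans hfix.symm))
    have e2 : σ * (σ * y * σ⁻¹) * σ⁻¹ ≠ a := fun e => e1 (hinj _ _ (e.trans hfix.symm))
    have e3 : σ * (σ * y * σ⁻¹) * σ⁻¹ ≠ σ * y * σ⁻¹ := fun e => m1 (hinj _ _ e)
    rw [Finset.card_insert_of_notMem (by simp [Ne.symm hya, e1.symm, e2.symm]),
      Finset.card_insert_of_notMem (by simp [Ne.symm m1, Ne.symm m2]),
      Finset.card_insert_of_notMem (by simp [Ne.symm e3]), Finset.card_singleton]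
  have h4 : 4 ≤ O.card := by
    rw [← hne x₁ (hOS _ hx₁O).1 (hOS _ hx₁O).2 hn₀a]
    refine Finset.card_le_card fun y hy => ?_
    simp only [Finset.mem_insert, Finset.mem_singleton] at hy
    rcases hy with rfl | rfl | rfl | rfl
    exacts [haO, hx₁O, hOσ _ hx₁O, hOσ _ (hOσ _ hx₁O)]
  suffices hvO : v ∈ O by
    obtain ⟨k, hk⟩ := (hmemO v).1 hvO
    exact ⟨k, (mem_inf.1 k.2).1, hnS k, hk⟩
  by_contra hvO
  have hva : v ≠ a := fun e => hvO (e ▸ haO)
  have hback : ∀ y, σ * y * σ⁻¹ ∈ O → y ∈ O := fun y hy => by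
    obtain ⟨k, hk⟩ := (hmemO _).1 hy
    refine (hmemO _).2 ⟨σ'⁻¹ * k, ?_⟩
    show (σ'⁻¹ * k) • a = y
    rw [mul_smul, show k • a = σ * y * σ⁻¹ from hk]
    show σ⁻¹ * (σ * y * σ⁻¹) * σ⁻¹⁻¹ = y
    group
  set M : Finset G := {v, σ * v * σ⁻¹, σ * (σ * v * σ⁻¹) * σ⁻¹} with hM
  have hM3 : M.card = 3 := by
    have := hne v hv hv1 hva
    rw [Finset.card_insert_of_notMem] at this
    · rw [hM]; omega
    · simp only [Finset.mem_insert, Finset.mem_singleton, not_or]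
      refine ⟨Ne.symm hva, fun e => hvO (hback _ (e ▸ haO)), fun e => hvO (hback _ (hback _ (e ▸ haO)))⟩
  set U : Finset G := (Finset.univ.filter (fun y => y ∈ (S : Subgroup G))).erase 1 with hU
  have hU7 : U.card = 7 := by
    rw [hU, Finset.card_erase_of_mem (by simp), ← Fintype.card_subtype, ← Nat.card_eq_fintype_card]
    have := h.env.three.card
    rw [show Nat.card {y // y ∈ (S : Subgroup G)} = 8 from this]
  have hMU : M ⊆ U := by
    intro y hy
    simp only [hM, Finset.mem_insert, Finset.mem_singleton] at hy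
    simp only [hU, Finset.mem_erase, Finset.mem_filter, Finset.mem_univ, true_and]
    have h1 : σ * v * σ⁻¹ ≠ 1 := fun e => hv1 (conj_eq_one_iff.1 e)
    rcases hy with rfl | rfl | rfl
    exacts [⟨hv1, hv⟩, ⟨h1, hσS v hv⟩, ⟨fun e => h1 (conj_eq_one_iff.1 e), hσS _ (hσS v hv)⟩]
  have hOU : O ⊆ U := fun y hy => by
    simp only [hU, Finset.mem_erase, Finset.mem_filter, Finset.mem_univ, true_and]
    exact ⟨(hOS y hy).2, (hOS y hy).1⟩
  have hdisj : Disjoint O M := Finset.disjoint_left.2 fun y hyO hy => by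
    simp only [hM, Finset.mem_insert, Finset.mem_singleton] at hy
    rcases hy with rfl | rfl | rfl
    exacts [hvO hyO, hvO (hback _ hyO), hvO (hback _ (hback _ hyO))]
  have := Finset.card_le_card (Finset.union_subset hOU hMU)
  rw [Finset.card_union_of_disjoint hdisj, hM3, hU7] at this
  obtain ⟨j, hj⟩ := hodd
  omega

/-- the other centralisers are covered when the involution is not isolated -/
theorem Over.over_all (h : Over S a H) (hniso : ¬ Iso S a H) {v : G} (hv : v ∈ S) (hv1 : v ≠ 1) :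
    Over S v H := by
  obtain ⟨n, hn, -, rfl⟩ := h.transitive hniso hv hv1
  exact ⟨h.env, h.proper, h.le, hv, hv1, h.cov.conj hn⟩

/-- the quotient by the odd core -/
abbrev qh (H : Subgroup G) : ↥H →* ↥H ⧸ Cfsg.oddCore ↥H := QuotientGroup.mk' _

theorem qh_eq_one {x : ↥H} : qh H x = 1 ↔ (x : G) ∈ Core H := by
  rw [show (qh H x = 1 ↔ x ∈ Cfsg.oddCore ↥H) from QuotientGroup.eq_one_iff x]
  exact ⟨fun h => ⟨x, h, rfl⟩, fun ⟨y, hy, e⟩ => Subtype.ext e ▸ hy⟩

theorem odd_qh_ker (H : Subgroup G) : (Nat.card ↥(qh H).ker).Coprime 2 := by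
  rw [QuotientGroup.ker_mk']
  exact Cfsg.Lib.Components.coprime_card_pPrimeCore 2

/-- lifts of the elements commuting with the image of `a` -/
theorem Over.lift (h : Over S a H) {y : ↥H ⧸ Cfsg.oddCore ↥H}
    (hy : y ∈ centralizer ({qh H ⟨a, h.mem_H⟩} : Set _)) :
    ∃ c : ↥H, Commute (c : G) a ∧ qh H c = y := by
  haveI : Fact (Nat.Prime 2) := ⟨Nat.prime_two⟩
  rw [← Cfsg.Lib.Components.centralizer_map_of_coprime_ker (QuotientGroup.mk'_surjective _) (odd_qh_ker H)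
    (IsPGroup.of_card (n := 1) (by
      rw [Nat.card_zpowers, pow_one, orderOf_mk]
      exact order_two (T := (S : Subgroup G)) h.env.three.sq h.mem h.ne_one))] at hy
  obtain ⟨c, hc, rfl⟩ := hy
  exact ⟨c, congrArg Subtype.val (mem_cent.1 hc).eq, rfl⟩

/-- the hypotheses on `H / O(H)` -/
theorem Over.quot (h : Over S a H) (hniso : ¬ Iso S a H) :
    ∃ T : Sylow 2 (↥H ⧸ Cfsg.oddCore ↥H), Nat.card ↥(T : Subgroup (↥H ⧸ Cfsg.oddCore ↥H)) = 8 ∧ (∀ x ∈ T, x * x = 1) ∧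
      Cfsg.Lib.GenDihedral.NoOdd (↥H ⧸ Cfsg.oddCore ↥H) ∧
      (∀ x ∈ T, ∀ y ∈ T, x ≠ 1 → y ≠ 1 → ∃ g ∈ normalizer ((T : Subgroup (↥H ⧸ Cfsg.oddCore ↥H)) : Set (↥H ⧸ Cfsg.oddCore ↥H)),
        g * x * g⁻¹ = y) ∧
      qh H ⟨a, h.mem_H⟩ ∈ T ∧ qh H ⟨a, h.mem_H⟩ ≠ 1 ∧
      ¬ Group.IsSolvable ↥(centralizer ({qh H ⟨a, h.mem_H⟩} : Set (↥H ⧸ Cfsg.oddCore ↥H))) ∧
      ∀ L : Subgroup (↥H ⧸ Cfsg.oddCore ↥H), IsSimpleGroup ↥L → ¬ IsMulCommutative ↥L → AbTwo ↥L → Typed ↥L := by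
  haveI : Fact (Nat.Prime 2) := ⟨Nat.prime_two⟩
  set T := (S.subtype h.le).mapSurjective (f := qh H) (QuotientGroup.mk'_surjective _) with hT
  have hmem : ∀ y, y ∈ T ↔ ∃ s : ↥H, (s : G) ∈ S ∧ qh H s = y := fun y =>
    ⟨fun ⟨s, hs, e⟩ => ⟨s, mem_subgroupOf.1 hs, e⟩, fun ⟨s, hs, e⟩ => ⟨s, mem_subgroupOf.2 hs, e⟩⟩
  have hinj : ∀ x y : ↥H, (x : G) ∈ S → (y : G) ∈ S → qh H x = qh H y → x = y := fun x y hx hy e => by
    have h1 : ((x * y⁻¹ : ↥H) : G) ∈ Core H := qh_eq_one.1 (by rw [map_mul, map_inv, e, mul_inv_cancel])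
    exact Subtype.ext (mul_inv_eq_one.1 (eq_one_of_sq (Cfsg.Lib.GW.Frame.odd_card_core H) h1
      (h.sq ((S : Subgroup G).mul_mem hx ((S : Subgroup G).inv_mem hy)))))
  refine ⟨T, ?_, fun x hx => ?_, fun N hN ho => ?_, fun x hx y hy hx1 hy1 => ?_,
    (hmem _).2 ⟨_, h.mem, rfl⟩, fun e => ?_, fun hs => ?_, fun L hL hna hab => ?_⟩
  · rw [← h.env.three.card]
    show Nat.card ↥(((S : Subgroup G).subgroupOf H).map (qh H)) = _
    refine (Nat.card_congr (Equiv.ofBijective (fun s : (S : Subgroup G) =>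
      (⟨qh H ⟨s, h.le s.2⟩, _, mem_subgroupOf.2 s.2, rfl⟩ : ↥(((S : Subgroup G).subgroupOf H).map (qh H))))
      ⟨fun p q e => ?_, ?_⟩)).symm
    · exact Subtype.ext (congrArg (fun w : ↥H => (w : G))
        (hinj ⟨p, h.le p.2⟩ ⟨q, h.le q.2⟩ p.2 q.2 (congrArg Subtype.val e)))
    · rintro ⟨y, s, hs, rfl⟩
      exact ⟨⟨s, mem_subgroupOf.1 hs⟩, rfl⟩
  · obtain ⟨s, hs, rfl⟩ := (hmem x).1 hx
    rw [← map_mul, qh_eq_one, Subgroup.coe_mul, h.sq hs]
    exact one_mem _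
  · have := @Cfsg.Lib.Components.le_pPrimeCore _ _ 2 N hN (Nat.coprime_two_right.2 ho)
    rw [Cfsg.Lib.Components.pPrimeCore_quotient_eq_bot] at this
    exact le_bot_iff.1 this
  · obtain ⟨x', hx', rfl⟩ := (hmem x).1 hx
    obtain ⟨y', hy', rfl⟩ := (hmem y).1 hy
    obtain ⟨n, hn, hnS, hnx⟩ := h.transitive hniso hx' (fun e => hx1 (by
      rw [show x' = 1 from Subtype.ext e, map_one]))
    obtain ⟨m, hm, hmS, hmy⟩ := h.transitive hniso hy' (fun e => hy1 (by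
      rw [show y' = 1 from Subtype.ext e, map_one]))
    have hN : ∀ (g : G) (hg : g ∈ H), (∀ z ∈ S, g * z * g⁻¹ ∈ S) →
        qh H ⟨g, hg⟩ ∈ normalizer ((T : Subgroup (↥H ⧸ Cfsg.oddCore ↥H)) : Set (↥H ⧸ Cfsg.oddCore ↥H)) := fun g hg hgS => by
      refine Cfsg.Lib.GW.mem_normalizer_finite fun z hz => ?_
      obtain ⟨s, hs, rfl⟩ := (hmem z).1 hz
      exact (hmem _).2 ⟨⟨g, hg⟩ * s * ⟨g, hg⟩⁻¹, hgS _ hs, by simp⟩
    refine ⟨qh H ⟨m, hm⟩ * (qh H ⟨n, hn⟩)⁻¹, mul_mem (hN m hm hmS) (inv_mem (hN n hn hnS)), ?_⟩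
    rw [← map_inv, ← map_mul, ← map_mul, ← map_inv, ← map_mul]
    refine congrArg _ (Subtype.ext ?_)
    push_cast
    rw [← hnx, ← hmy]
    group
  · exact h.ne_one (congrArg (fun w : ↥H => (w : G))
      (hinj ⟨a, h.mem_H⟩ 1 h.mem (S : Subgroup G).one_mem (e.trans (map_one _).symm)))
  · refine cent_nonsolvable h.env.three h.mem h.ne_one ?_
    set C := centralizer ({a} : Set G)
    set D := H ⊓ C with hD
    set f : ↥D →* ↥H ⧸ Cfsg.oddCore ↥H := (qh H).comp (Subgroup.inclusion (inf_le_left (b := C))) with hf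
    have hDs : Group.IsSolvable ↥D := by
      haveI : Group.IsSolvable ↥f.ker := Cfsg.Agent.PF.isSolvable_of_odd _ (by
        refine (Cfsg.Lib.GW.Frame.odd_card_core H).of_dvd_nat ?_
        have : f.ker.map D.subtype ≤ Core H := by
          rintro _ ⟨d, hd, rfl⟩
          exact qh_eq_one.1 (MonoidHom.mem_ker.1 hd)
        have h1 := card_dvd_of_le this
        rwa [card_map_of_injective D.subtype_injective] at h1)
      haveI := hs
      have hfr : ∀ d, f d ∈ centralizer ({qh H ⟨a, h.mem_H⟩} : Set (↥H ⧸ Cfsg.oddCore ↥H)) := fun d => by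
        refine mem_centralizer_singleton_iff.2 ?_
        simp only [hf, MonoidHom.comp_apply, ← map_mul]
        exact congrArg _ (Subtype.ext (mem_centralizer_singleton_iff.1 (mem_inf.1 d.2).2))
      exact Group.isSolvable_of_ker_le_range f.ker.subtype (f.codRestrict _ hfr) (by
        intro d hd
        rw [range_subtype]
        exact MonoidHom.mem_ker.2 (congrArg Subtype.val (MonoidHom.mem_ker.1 hd)))
    haveI : Group.IsSolvable ↥(Oc a) := Cfsg.Agent.PF.isSolvable_of_odd _ (odd_oc a)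
    refine Cfsg.Lib.Coprime.isSolvable_of_le ?_
      (Cfsg.Lib.Signalizer.isSolvable_sup (inf_le_right.trans (oc_norm a) : D ≤ normalizer (Oc a : Set G))
        inferInstance hDs)
    intro x hx
    obtain ⟨o, ho, k, hk, hka, rfl⟩ := h.cov x (mem_cent.1 hx)
    exact mul_mem_sup ho (mem_inf.2 ⟨hk, mem_cent.2 hka⟩)
  · refine h.env.min.below ↥L hna hab ((card_le_card_group L).trans_lt ?_)
    refine (Nat.le_of_dvd Nat.card_pos (Subgroup.card_quotient_dvd_card _)).trans_lt ?_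
    exact lt_of_le_of_ne (card_le_card_group H) fun e => h.proper (eq_top_of_card_eq H e)

theorem sup_odd {K R : Subgroup G} (hn : R ≤ normalizer (K : Set G)) (hK : Odd (Nat.card ↥K))
    (hR : Odd (Nat.card ↥R)) : Odd (Nat.card ↥(K ⊔ R)) := by
  have h1 := hK.mul hR
  rw [← card_sup_mul_card_inf hn] at h1
  exact (Nat.odd_mul.1 h1).1

/-- `O(C(a))` meets `H` inside the core -/
theorem Over.oc_inf (h : Over S a H) {x : G} (hx : x ∈ Oc a) (hxH : x ∈ H) : x ∈ Core H := by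
  set R := Oc a ⊓ H with hR
  have hRo : Odd (Nat.card ↥R) := (odd_oc a).of_dvd_nat (card_dvd_of_le inf_le_left)
  have hcR : ∀ c ∈ H, Commute c a → ∀ r ∈ R, c * r * c⁻¹ ∈ R := fun c hc hca r hr =>
    mem_inf.2 ⟨(mem_normalizer_iff.1 (oc_norm a (mem_cent.2 hca)) r).1 (mem_inf.1 hr).1,
      mul_mem (mul_mem hc (mem_inf.1 hr).2) (inv_mem hc)⟩
  by_cases hiso : Iso S a H
  · set K := Core H ⊔ R with hK
    have hKn : H ≤ normalizer (K : Set G) := by
      intro y hy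
      obtain ⟨k, hk, c, hc, hca, rfl⟩ := h.factor hiso hy
      refine mul_mem (le_normalizer (mem_sup_left hk)) ?_
      exact le_normalizer_sup (H := zpowers c) (zpowers_le.2 (le_normalizer_core H hc))
        (zpowers_le.2 (Cfsg.Lib.GW.mem_normalizer_finite (hcR c hc hca))) (mem_zpowers c)
    exact le_core (sup_le (core_le H) inf_le_right) hKn
      (sup_odd (inf_le_right.trans (le_normalizer_core H)) (Cfsg.Lib.GW.Frame.odd_card_core H) hRo)
      (mem_sup_right (mem_inf.2 ⟨hx, hxH⟩))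
  · obtain ⟨T, hT, hsq, hO, htr, haT, ha1, hns, hbelow⟩ := h.quot hiso
    have hb := cent_core T hT hsq hO htr haT ha1 hns hbelow h.env.a3 (R := (R.subgroupOf H).map (qh H))
      (by
        rintro _ ⟨r, hr, rfl⟩
        refine mem_centralizer_singleton_iff.2 ?_
        rw [← map_mul, ← map_mul]
        exact congrArg _ (Subtype.ext (oc_comm (mem_inf.1 (mem_subgroupOf.1 hr)).1).eq))
      (fun y hy => by
        obtain ⟨c, hca, rfl⟩ := h.lift hy
        refine Cfsg.Lib.GW.mem_normalizer_finite ?_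
        rintro _ ⟨r, hr, rfl⟩
        exact ⟨c * r * c⁻¹, mem_subgroupOf.2 (hcR c c.2 hca r (mem_subgroupOf.1 hr)), by simp⟩)
      (hRo.of_dvd_nat ((card_map_dvd _ _).trans (Nat.card_congr (subgroupOfEquivOfLe inf_le_right).toEquiv).dvd))
    have h1 : qh H ⟨x, hxH⟩ ∈ (R.subgroupOf H).map (qh H) :=
      ⟨⟨x, hxH⟩, mem_subgroupOf.2 (mem_inf.2 ⟨hx, hxH⟩), rfl⟩
    rw [hb, mem_bot] at h1
    exact qh_eq_one.1 h1

/-- a `p`-subgroup normalised by a covering subgroup lies in the core -/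
theorem Over.pgroup_core (h : Over S a H) {p : ℕ} [Fact p.Prime] (hp : p ≠ 2) {R : Subgroup G} (hRH : R ≤ H)
    (hR : IsPGroup p ↥R) (hcov : Cov a (normalizer (R : Set G) ⊓ H)) : R ≤ Core H := by
  have hRo := odd_card_pgroup hp hR
  -- elements of `C_H(a)` normalise `R` modulo the core
  have hdec : ∀ c ∈ H, Commute c a → ∃ k ∈ Core H, ∃ n ∈ normalizer (R : Set G), n ∈ H ∧ c = k * n := by
    intro c hc hca
    obtain ⟨o, ho, n, hn, -, rfl⟩ := hcov c hca
    refine ⟨o, h.oc_inf ho ?_, n, (mem_inf.1 hn).1, (mem_inf.1 hn).2, rfl⟩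
    have := mul_mem hc (inv_mem (mem_inf.1 hn).2)
    rwa [mul_inv_cancel_right] at this
  by_cases hiso : Iso S a H
  · set K := Core H ⊔ R with hK
    have hKn : H ≤ normalizer (K : Set G) := by
      intro y hy
      obtain ⟨k, hk, c, hc, hca, rfl⟩ := h.factor hiso hy
      refine mul_mem (le_normalizer (mem_sup_left hk)) ?_
      obtain ⟨k', hk', n, hn, hnH, rfl⟩ := hdec c hc hca
      refine mul_mem (le_normalizer (mem_sup_left hk')) ?_
      exact le_normalizer_sup (H := zpowers n) (zpowers_le.2 (le_normalizer_core H hnH)) (zpowers_le.2 hn)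
        (mem_zpowers n)
    exact le_sup_right.trans (le_core (sup_le (core_le H) hRH) hKn
      (sup_odd (hRH.trans (le_normalizer_core H)) (Cfsg.Lib.GW.Frame.odd_card_core H) hRo))
  · obtain ⟨T, hT, hsq, hO, htr, haT, ha1, hns, hbelow⟩ := h.quot hiso
    have hb := pgroup_bot T hT hsq hO htr haT ha1 hns hbelow h.env.a3 hp (R := (R.subgroupOf H).map (qh H))
      ((hR.comap_of_injective H.subtype H.subtype_injective).map _)
      (fun y hy => by
        obtain ⟨c, hca, rfl⟩ := h.lift hy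
        obtain ⟨k, hk, n, hn, hnH, e⟩ := hdec c c.2 hca
        have hcn : qh H c = qh H ⟨n, hnH⟩ := by
          rw [show c = ⟨k, core_le H hk⟩ * ⟨n, hnH⟩ from Subtype.ext e, map_mul,
            qh_eq_one.2 (show ((⟨k, core_le H hk⟩ : ↥H) : G) ∈ Core H from hk), one_mul]
        rw [hcn]
        refine Cfsg.Lib.GW.mem_normalizer_finite ?_
        rintro _ ⟨r, hr, rfl⟩
        exact ⟨⟨n, hnH⟩ * r * ⟨n, hnH⟩⁻¹, mem_subgroupOf.2 ((mem_normalizer_iff.1 hn r).1 (mem_subgroupOf.1 hr)),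
          by simp⟩)
    intro x hx
    have h1 : qh H ⟨x, hRH hx⟩ ∈ (R.subgroupOf H).map (qh H) := ⟨⟨x, hRH hx⟩, mem_subgroupOf.2 hx, rfl⟩
    rw [hb, mem_bot] at h1
    exact qh_eq_one.1 h1

end Cfsg.Lib.Walter.R3
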