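import Cfsg.Agent.Walter.RankThree.Completion
import Cfsg.Agent.Walter.AutPSL
import Cfsg.Agent.BenderSE.AbelianSylow.Large

/-!
Walter, the branch of rank three: the group has Janko–Ree type.
-/

set_option autoImplicit false
set_option linter.unusedSectionVars false
set_option linter.style.haveILetI false

namespace Cfsg.Lib.Walter

open Subgroup Cfsg.Lib.Coprime Cfsg.Lib.InvolCalc Cfsg.Lib.StrongEmb Cfsg.Lib.BenderSE

universe u

variable {G : Type u} [Group G] [Finite G]

namespace R3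

theorem a3Spec : A3Spec := fun _F _ _ hq φ ho h5 _t ht hfix => psl_aut_eq_one hq h5 φ ho ht hfix

theorem wt_eq_bot {S : Sylow 2 G} (hE : Env S) : Wt S = ⊥ := by
  haveI : Fact (Nat.Prime 2) := ⟨Nat.prime_two⟩
  by_contra hne
  have hm := hE.min
  have hTh := hE.three
  haveI := hm.simple
  obtain ⟨hWo, -⟩ := wt_family hE
  set M := normalizer (Wt S : Set G) with hM
  obtain ⟨t, htS, ht1⟩ := (S : Subgroup G).bot_or_exists_ne_one.resolve_left fun e => by
    have := hTh.card
    rw [e, card_bot] at this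
    omega
  have hev : Even (Nat.card G) := even_iff_two_dvd.2
    (order_two (T := (S : Subgroup G)) hTh.sq htS ht1 ▸ orderOf_dvd_natCard t)
  have h := Cfsg.Lib.BenderSE.Ring2.normal_or_embedded S (sylow_le_wt (S := S)) hev
    (fun a ha hao => cent_le_wt hE ha fun e => by rw [e, orderOf_one] at hao; omega)
    (fun a ha b hb hao g hg => by
      obtain ⟨n, hn, e⟩ := hTh.trans a ha b hb (fun e => by rw [e, orderOf_one] at hao; omega)
        (fun e => by
          rw [e, conj_eq_one_iff] at hg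
          rw [hg, orderOf_one] at hao; omega)
      exact ⟨n, norm_le_wt hn, e⟩)
  rcases h with h | h
  · haveI := normalizer_eq_top_iff.1 h
    rcases IsSimpleGroup.eq_bot_or_eq_top_of_normal (Wt S) inferInstance with e | e
    · exact hne e
    · rw [e, card_top] at hWo
      exact Nat.not_even_iff_odd.2 hWo hev
  have hO : Cfsg.oddCore G = ⊥ := by
    rcases IsSimpleGroup.eq_bot_or_eq_top_of_normal (Cfsg.oddCore G) inferInstance with e | e
    · exact e
    · have := Cfsg.Lib.BenderSE.Ring2.odd_oddCore (G := G)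
      rw [e, card_top] at this
      exact absurd hev (Nat.not_even_iff_odd.2 this)
  obtain ⟨a, ha, ha1⟩ := (S : Subgroup G).bot_or_exists_ne_one.resolve_left fun e => by
    have := hTh.card
    rw [e, card_bot] at this
    omega
  obtain ⟨b, hb, hb1, hab⟩ : ∃ b ∈ S, b ≠ 1 ∧ a ≠ b := by
    by_contra hc
    push Not at hc
    have hle : (S : Subgroup G) ≤ zpowers a := fun x hx => by
      rcases eq_or_ne x 1 with rfl | hx1
      · exact one_mem _
      · exact hc x hx hx1 ▸ mem_zpowers a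
    have := card_le_of_le hle
    rw [hTh.card, Nat.card_zpowers, order_two (T := (S : Subgroup G)) hTh.sq ha ha1] at this
    omega
  have h2 : HasCommutingInvolutions G := ⟨a, b, order_two (T := (S : Subgroup G)) hTh.sq ha ha1,
    order_two (T := (S : Subgroup G)) hTh.sq hb hb1, hab, (comm_of_sq (T := (S : Subgroup G)) hTh.sq ha hb).eq⟩
  have hset : Setting M := ⟨h, by rw [normalCore_eq_oddCore h h2, hO], h2⟩
  obtain ⟨L, Q, Fr⟩ := exists_frame regProp hset
  obtain ⟨P, hP⟩ := Fr.sylow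
  obtain ⟨F, i1, i2, hn, N, hN, ⟨e⟩, -⟩ := AbSyl.socle_linear Fr hset
    (fun x hx y hy => hm.ab P x (show x ∈ (P : Subgroup G) by rw [hP]; exact hx) y
      (show y ∈ (P : Subgroup G) by rw [hP]; exact hy))
  haveI := hN
  have hNtop : N = ⊤ := by
    refine (IsSimpleGroup.eq_bot_or_eq_top_of_normal N inferInstance).resolve_left fun e' => ?_
    obtain ⟨n, hn2, hF⟩ := hn
    haveI : Subsingleton ↥N := by rw [e']; infer_instance
    haveI : IsSimpleGroup (Matrix.ProjectiveSpecialLinearGroup (Fin 2) F) :=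
      Matrix.ProjectiveSpecialLinearGroup.rank_two_simple (by
        rw [Nat.card_eq_fintype_card, hF]
        calc 3 < 2 ^ 2 := by norm_num
          _ ≤ 2 ^ n := Nat.pow_le_pow_right two_pos hn2)
    exact not_subsingleton (Matrix.ProjectiveSpecialLinearGroup (Fin 2) F) e.symm.toEquiv.subsingleton
  have hbin : IsBinaryPSL G :=
    ⟨F, i1, i2, hn, ⟨(Subgroup.topEquiv.symm.trans (MulEquiv.subgroupCongr hNtop.symm)).trans e⟩⟩
  exact cent_nonsolvable hTh ha ha1
    (binary_cent hm.nab hbin (order_two (T := (S : Subgroup G)) hTh.sq ha ha1))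

theorem oc_eq_bot {S : Sylow 2 G} (hE : Env S) {t : G} (ht : t ∈ S) (ht1 : t ≠ 1) : Oc t = ⊥ :=
  le_bot_iff.1 (wt_eq_bot hE ▸ oc_le_wt ht ht1)

end R3

/-- P3 -/
theorem threeSpec : ThreeSpec G := by
  intro hm S _ hTh
  have hE : R3.Env S := ⟨hm, hTh, R3.a3Spec⟩
  obtain ⟨t, ht, ht1⟩ := (S : Subgroup G).bot_or_exists_ne_one.resolve_left fun e => by
    have := hTh.card
    rw [e, card_bot] at this
    omega
  refine ⟨fun T => by
    haveI : Fact (Nat.Prime 2) := ⟨Nat.prime_two⟩
    exact T.card_eq_multiplicity.trans (S.card_eq_multiplicity.symm.trans hTh.card), ?_⟩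
  obtain ⟨F, i1, i2, E, E₀, h⟩ := R3.exists_top hTh ht ht1
  have hinj : Function.Injective (R3.qc t) := (injective_iff_map_eq_one _).2 fun x hx => by
    have h1 := R3.qc_eq_one.1 hx
    rw [R3.oc_eq_bot hE ht ht1, mem_bot] at h1
    exact Subtype.ext h1
  let e : ↥(centralizer ({t} : Set G)) ≃* ↥(centralizer ({t} : Set G)) ⧸ Cfsg.pPrimeCore 2 ↥(centralizer ({t} : Set G)) :=
    MulEquiv.ofBijective (R3.qc t) ⟨hinj, QuotientGroup.mk'_surjective _⟩
  set f : (↥(centralizer ({t} : Set G)) ⧸ Cfsg.pPrimeCore 2 ↥(centralizer ({t} : Set G))) →* G := (centralizer ({t} : Set G)).subtype.comp e.symm.toMonoidHom with hf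
  have hfinj : Function.Injective f := (centralizer ({t} : Set G)).subtype_injective.comp e.symm.injective
  have hft : f (R3.qc t ⟨t, mem_centralizer_singleton_iff.2 rfl⟩) = t := by
    show ((e.symm (e ⟨t, mem_centralizer_singleton_iff.2 rfl⟩) : ↥(centralizer ({t} : Set G))) : G) = t
    rw [e.symm_apply_apply]
  refine ⟨t, E.map f, E₀.map f, F, i1, i2, h.five, h.congr, ?_⟩
  obtain ⟨g⟩ := h.hyp.iso
  refine ⟨R3.order_two (T := (S : Subgroup G)) hTh.sq ht ht1, ?_, ?_, ?_, map_mono h.hyp.le, ?_, ?_,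
    h.hyp.odd, ⟨(equivMapOfInjective E₀ f hfinj).symm.trans g⟩⟩
  · rintro _ ⟨x, hx, rfl⟩
    have h1 := (h.hyp.comm x hx).map f
    rwa [hft] at h1
  · intro x hx
    set y : ↥(centralizer ({t} : Set G)) := ⟨x, R3.mem_cent.2 hx⟩ with hy
    have hfy : f (e y) = x := by
      show ((e.symm (e y) : ↥(centralizer ({t} : Set G))) : G) = x
      rw [e.symm_apply_apply]
    have hc : Commute (e y) (R3.qc t ⟨t, mem_centralizer_singleton_iff.2 rfl⟩) := by
      show R3.qc t y * R3.qc t _ = R3.qc t _ * R3.qc t y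
      rw [← map_mul, ← map_mul]
      exact congrArg _ (Subtype.ext hx.eq)
    obtain ⟨u, hu, r⟩ := h.hyp.split (e y) hc
    refine ⟨f u, ⟨u, hu, rfl⟩, r.imp (fun r => ?_) fun r => ?_⟩
    · rw [← r, hfy]
    · rw [← hfy, r, map_mul, hft]
  · rintro ⟨x, hx, hxt⟩
    exact h.hyp.disj (hfinj (hft.trans hxt.symm) ▸ hx)
  · rintro _ ⟨u, hu, rfl⟩ _ ⟨x, hx, rfl⟩
    exact ⟨u * x * u⁻¹, h.hyp.norm u hu x hx, by simp⟩
  · rintro _ ⟨u, hu, rfl⟩ hc
    have : u = 1 := h.hyp.faith u hu fun x hx => hfinj (by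
      rw [map_mul, map_mul]; exact hc _ ⟨x, hx, rfl⟩)
    simp [this]

end Cfsg.Lib.Walter
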