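import Cfsg.Agent.Walter.RankThree.Socle

/-!
Walter, the branch of rank three: `C(t)` read off from its quotient by the odd core.
-/

set_option autoImplicit false
set_option linter.unusedSectionVars false
set_option linter.style.haveILetI false

namespace Cfsg.Lib.Walter.R3

open Subgroup Cfsg.Lib.Coprime

universe u

variable {G : Type u} [Group G] [Finite G]

/-- `C(t) → C(t)/O(C(t))` -/
abbrev qc (t : G) : ↥(centralizer ({t} : Set G)) →* ↥(centralizer ({t} : Set G)) ⧸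
    Cfsg.pPrimeCore 2 ↥(centralizer ({t} : Set G)) :=
  QuotientGroup.mk' _

theorem qc_eq_one {t : G} {x : ↥(centralizer ({t} : Set G))} : qc t x = 1 ↔ (x : G) ∈ Oc t := by
  rw [show (qc t x = 1 ↔ x ∈ Cfsg.pPrimeCore 2 ↥(centralizer ({t} : Set G))) from QuotientGroup.eq_one_iff x]
  exact ⟨fun h => ⟨x, h, rfl⟩, fun ⟨y, hy, e⟩ => Subtype.ext e ▸ hy⟩

theorem qc_eq {t : G} {x y : ↥(centralizer ({t} : Set G))} (h : qc t x = qc t y) :
    ∃ o ∈ Oc t, (x : G) = y * o := by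
  refine ⟨((y⁻¹ * x : ↥(centralizer ({t} : Set G))) : G), qc_eq_one.1 (by rw [map_mul, map_inv, h, inv_mul_cancel]), ?_⟩
  push_cast
  rw [mul_inv_cancel_left]

theorem oc_of_two {t x : G} (hx : x * x = 1) (hO : x ∈ Oc t) : x = 1 := eq_one_of_sq (odd_oc t) hO hx

theorem odd_qc_ker (t : G) : (Nat.card ↥(qc t).ker).Coprime 2 := by
  rw [QuotientGroup.ker_mk']
  exact Cfsg.Lib.Components.coprime_card_pPrimeCore 2

section

variable {S : Sylow 2 G} (hTh : Three S) {t : G} (htS : t ∈ S) (ht1 : t ≠ 1)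
include hTh htS ht1

theorem sylow_le_cent : (S : Subgroup G) ≤ centralizer ({t} : Set G) := fun _ hx =>
  mem_cent.2 (comm_of_sq (T := (S : Subgroup G)) hTh.sq hx htS)

/-- the image of `S` -/
noncomputable def qT : Sylow 2 (↥(centralizer ({t} : Set G)) ⧸ Cfsg.pPrimeCore 2 ↥(centralizer ({t} : Set G))) :=
  haveI : Fact (Nat.Prime 2) := ⟨Nat.prime_two⟩
  (S.subtype (sylow_le_cent hTh htS ht1)).mapSurjective (f := qc t) (QuotientGroup.mk'_surjective _)

theorem qT_coe : (qT hTh htS ht1 : Subgroup _) =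
    ((S : Subgroup G).subgroupOf (centralizer ({t} : Set G))).map (qc t) := rfl

theorem mem_qT {y} : y ∈ qT hTh htS ht1 ↔ ∃ s : ↥(centralizer ({t} : Set G)), (s : G) ∈ S ∧ qc t s = y := by
  show y ∈ (qT hTh htS ht1 : Subgroup _) ↔ _
  rw [qT_coe]
  exact ⟨fun ⟨s, hs, e⟩ => ⟨s, mem_subgroupOf.1 hs, e⟩, fun ⟨s, hs, e⟩ => ⟨s, mem_subgroupOf.2 hs, e⟩⟩

theorem qc_inj {x y : ↥(centralizer ({t} : Set G))} (hx : (x : G) ∈ S) (hy : (y : G) ∈ S)
    (h : qc t x = qc t y) : x = y := by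
  have h1 : ((x * y⁻¹ : ↥(centralizer ({t} : Set G))) : G) ∈ Oc t :=
    qc_eq_one.1 (by rw [map_mul, map_inv, h, mul_inv_cancel])
  have h2 := oc_of_two (hTh.sq _ ((S : Subgroup G).mul_mem hx ((S : Subgroup G).inv_mem hy))) h1
  exact Subtype.ext (mul_inv_eq_one.1 h2)

/-- `t` in its centraliser -/
abbrev self (t : G) : ↥(centralizer ({t} : Set G)) := ⟨t, mem_centralizer_singleton_iff.2 rfl⟩

theorem exists_top : ∃ (F : Type) (_ : Field F) (_ : Fintype F) (E E₀ : Subgroup _),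
    Top (qc t ⟨t, mem_centralizer_singleton_iff.2 rfl⟩) E E₀ F (qT hTh htS ht1) := by
  haveI : Fact (Nat.Prime 2) := ⟨Nat.prime_two⟩
  obtain ⟨F, i1, i2, E, E₀, h5, h8, hdp, hle, hn, -, hcent, hiso⟩ := hTh.data t htS ht1
  obtain ⟨-, -, hcomm, hinf, hsup⟩ := hdp
  set z : ↥(centralizer ({t} : Set G)) := ⟨t, mem_centralizer_singleton_iff.2 rfl⟩ with hz
  have htt : t * t = 1 := hTh.sq t htS
  have hzT : qc t z ∈ qT hTh htS ht1 := (mem_qT hTh htS ht1).2 ⟨z, htS, rfl⟩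
  have hsq : ∀ x ∈ qT hTh htS ht1, x * x = 1 := by
    intro x hx
    obtain ⟨s, hs, rfl⟩ := (mem_qT hTh htS ht1).1 hx
    rw [← map_mul, qc_eq_one]
    rw [Subgroup.coe_mul, hTh.sq _ hs]
    exact one_mem _
  have hord : orderOf (qc t z) = 2 := by
    refine orderOf_eq_prime (by rw [pow_two, hsq _ hzT]) fun e => ?_
    exact ht1 (oc_of_two htt (qc_eq_one.1 e : (z : G) ∈ Oc t))
  have hcases : ∀ x ∈ zpowers (qc t z), x = 1 ∨ x = qc t z := by
    rintro _ ⟨i, rfl⟩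
    have hz2 := hsq _ hzT
    rcases Int.even_or_odd i with ⟨j, rfl⟩ | ⟨j, rfl⟩
    · exact Or.inl (by simp only; rw [zpow_add, ← (Commute.refl (qc t z)).mul_zpow, hz2, one_zpow])
    · exact Or.inr (by
        simp only; rw [zpow_add, two_mul, zpow_add, ← (Commute.refl (qc t z)).mul_zpow, hz2, one_zpow, one_mul,
          zpow_one])
  have hcz : ∀ e ∈ E, Commute (qc t z) e := fun e he => hcomm _ (mem_zpowers _) e he
  have hzn : zpowers (qc t z) ≤ normalizer (E : Set _) := zpowers_le.2 (centralizer_le_normalizer _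
    (mem_centralizer_iff.2 fun e he => (hcz e he).symm.eq))
  have hsplit : ∀ x, ∃ e ∈ E, x = e ∨ x = qc t z * e := by
    intro x
    have hx : x ∈ zpowers (qc t z) ⊔ E := hsup ▸ mem_top x
    obtain ⟨a, ha, e, he, rfl⟩ := (mem_sup_of_le_normalizer' hzn).1 (sup_comm (zpowers (qc t z)) E ▸ hx)
    rcases hcases a ha with rfl | rfl
    · exact ⟨e, he, Or.inl (one_mul _)⟩
    · exact ⟨e, he, Or.inr rfl⟩
  refine ⟨F, i1, i2, E, E₀, ⟨⟨hord, hcz, fun x _ => hsplit x, fun h => ?_, hle,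
    fun e _ x hx => hn.conj_mem x hx e, fun e he hc => ?_, ?_, hiso⟩, h5, h8, hzT, ?_, hsq⟩⟩
  · have : qc t z ∈ (⊥ : Subgroup _) := hinf.le (mem_inf.2 ⟨mem_zpowers _, h⟩)
    rw [mem_bot] at this
    rw [this, orderOf_one] at hord
    omega
  · have : e ∈ E ⊓ centralizer (E₀ : Set _) :=
      mem_inf.2 ⟨he, mem_centralizer_iff.2 fun x hx => (hc x hx).symm.eq⟩
    rwa [hcent, mem_bot] at this
  · exact Nat.odd_iff.2 (by omega)
  · rw [← hTh.card]
    show Nat.card ↥(((S : Subgroup G).subgroupOf (centralizer ({t} : Set G))).map (qc t)) = _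
    refine (Nat.card_congr (Equiv.ofBijective (fun s : (S : Subgroup G) =>
      (⟨qc t ⟨s, sylow_le_cent hTh htS ht1 s.2⟩, _, mem_subgroupOf.2 s.2, rfl⟩ :
        ↥(((S : Subgroup G).subgroupOf (centralizer ({t} : Set G))).map (qc t)))) ⟨fun a b e => ?_, ?_⟩)).symm
    · have := qc_inj hTh htS ht1 (x := ⟨a, sylow_le_cent hTh htS ht1 a.2⟩)
        (y := ⟨b, sylow_le_cent hTh htS ht1 b.2⟩) a.2 b.2 (congrArg Subtype.val e)
      exact Subtype.ext (congrArg (fun w : ↥(centralizer ({t} : Set G)) => (w : G)) this)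
    · rintro ⟨y, s, hs, rfl⟩
      exact ⟨⟨s, mem_subgroupOf.1 hs⟩, rfl⟩

theorem cent_nonsolvable : ¬ Group.IsSolvable ↥(centralizer ({t} : Set G)) := fun hs => by
  obtain ⟨F, i1, i2, E, E₀, h⟩ := exists_top hTh htS ht1
  refine h.nonsolvable ?_
  haveI := hs
  haveI : Group.IsSolvable (↥(centralizer ({t} : Set G)) ⧸ Cfsg.pPrimeCore 2 ↥(centralizer ({t} : Set G))) :=
    Group.isSolvable_of_surjective (f := qc t) (QuotientGroup.mk'_surjective _)
  infer_instance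

/-- the normal subgroups of `C(t)` -/
theorem cent_cases {N : Subgroup G} (hN : N ≤ centralizer ({t} : Set G))
    (hn : centralizer ({t} : Set G) ≤ normalizer (N : Set G)) :
    (∀ x ∈ N, x ∈ Oc t ∨ t * x ∈ Oc t) ∨
      (∀ s ∈ S, ∃ m ∈ N, ∃ o ∈ Oc t, s = m * o ∨ s = t * (m * o)) := by
  obtain ⟨F, i1, i2, E, E₀, h⟩ := exists_top hTh htS ht1
  set z : ↥(centralizer ({t} : Set G)) := ⟨t, mem_centralizer_singleton_iff.2 rfl⟩ with hz
  have hc : ∀ y, y ∈ centralizer ({qc t z} : Set (↥(centralizer ({t} : Set G)) ⧸ _)) := fun y => by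
    obtain ⟨c, rfl⟩ := QuotientGroup.mk'_surjective _ y
    refine mem_cent.2 ?_
    show qc t c * qc t z = qc t z * qc t c
    rw [← map_mul, ← map_mul]
    exact congrArg _ (Subtype.ext (mem_cent.1 c.2).eq)
  rcases h.normal_cases (N := (N.subgroupOf (centralizer ({t} : Set G))).map (qc t)) (fun y _ => hc y) (by
      intro g _ x hx
      obtain ⟨c, rfl⟩ := QuotientGroup.mk'_surjective _ g
      obtain ⟨n, hn', rfl⟩ := hx
      refine ⟨c * n * c⁻¹, mem_subgroupOf.2 ?_, by simp⟩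
      exact (mem_normalizer_iff.1 (hn c.2) _).1 (mem_subgroupOf.1 hn')) with e | e
  · refine Or.inr fun s hs => ?_
    set s' : ↥(centralizer ({t} : Set G)) := ⟨s, sylow_le_cent hTh htS ht1 hs⟩
    rcases h.proj ((mem_qT hTh htS ht1).2 ⟨s', hs, rfl⟩) with hp | hp
    · obtain ⟨m, hm, em⟩ := e hp
      obtain ⟨o, ho, eo⟩ := qc_eq em.symm
      exact ⟨m, mem_subgroupOf.1 hm, o, ho, Or.inl eo⟩
    · obtain ⟨m, hm, em⟩ := e hp
      obtain ⟨o, ho, eo⟩ := qc_eq (x := z * s') (y := m) (by rw [map_mul]; exact em.symm)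
      refine ⟨m, mem_subgroupOf.1 hm, o, ho, Or.inr ?_⟩
      rw [← eo]
      show s = t * (t * s)
      rw [← mul_assoc, hTh.sq t htS, one_mul]
  · refine Or.inl fun x hx => ?_
    rcases e _ ⟨⟨x, hN hx⟩, mem_subgroupOf.2 hx, rfl⟩ with e' | e'
    · exact Or.inl (qc_eq_one.1 e')
    · refine Or.inr ?_
      have : qc t (z * ⟨x, hN hx⟩) = 1 := by rw [map_mul, e', ← map_mul, qc_eq_one]; simp [z, hTh.sq t htS]
      exact qc_eq_one.1 this

/-- no odd subgroup centralised by `S` modulo the core sticks out of it -/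
theorem cent_field (hA3 : A3Spec) {Y : Subgroup G} (hY : Y ≤ centralizer ({t} : Set G))
    (ho : Odd (Nat.card ↥Y)) (hYS : ∀ y ∈ Y, ∀ s ∈ S, y * s * y⁻¹ * s⁻¹ ∈ Oc t) {s : G} (hs : s ∈ S)
    (hs1 : s ≠ 1) (hst : s ≠ t)
    (hn : ∀ c : G, Commute c t → Commute c s → ∀ y ∈ Y, c * y * c⁻¹ ∈ Y) : Y ≤ Oc t := by
  haveI : Fact (Nat.Prime 2) := ⟨Nat.prime_two⟩
  obtain ⟨F, i1, i2, E, E₀, h⟩ := exists_top hTh htS ht1
  set z : ↥(centralizer ({t} : Set G)) := ⟨t, mem_centralizer_singleton_iff.2 rfl⟩ with hz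
  set s' : ↥(centralizer ({t} : Set G)) := ⟨s, sylow_le_cent hTh htS ht1 hs⟩ with hs'
  intro y hy
  refine (qc_eq_one (x := ⟨y, hY hy⟩)).1 (h.field hA3 (Y := (Y.subgroupOf (centralizer ({t} : Set G))).map (qc t))
    ?_ ?_ ?_ ((mem_qT hTh htS ht1).2 ⟨s', hs, rfl⟩) ?_ ?_ ?_ ⟨⟨y, hY hy⟩, mem_subgroupOf.2 hy, rfl⟩)
  · rintro _ ⟨w, -, rfl⟩
    refine mem_cent.2 ?_
    show qc t w * qc t z = qc t z * qc t w
    rw [← map_mul, ← map_mul]
    exact congrArg _ (Subtype.ext (mem_cent.1 w.2).eq)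
  · exact ho.of_dvd_nat ((card_map_dvd _ _).trans (Nat.card_congr (subgroupOfEquivOfLe hY).toEquiv).dvd)
  · rintro _ ⟨w, hw, rfl⟩ x hx
    obtain ⟨r, hr, rfl⟩ := (mem_qT hTh htS ht1).1 hx
    have : qc t (w * r * w⁻¹ * r⁻¹) = 1 := qc_eq_one.2 (hYS _ (mem_subgroupOf.1 hw) _ hr)
    rw [map_mul, map_mul, map_mul, map_inv, map_inv, mul_inv_eq_one, mul_inv_eq_iff_eq_mul] at this
    exact this
  · exact fun e => hs1 (oc_of_two (hTh.sq s hs) (qc_eq_one.1 e : (s' : G) ∈ Oc t))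
  · exact fun e => hst (congrArg Subtype.val (qc_inj hTh htS ht1 (x := s') (y := z) hs htS e))
  · intro c _ hcs x hx
    obtain ⟨w, hw, rfl⟩ := hx
    have hc : c ∈ (centralizer ({s'} : Set _)).map (qc t) := by
      rw [Cfsg.Lib.Components.centralizer_map_of_coprime_ker (QuotientGroup.mk'_surjective _) (odd_qc_ker t)
        (IsPGroup.of_card (n := 1) (by
          rw [Nat.card_zpowers, pow_one]
          exact orderOf_eq_prime (Subtype.ext (by simp [pow_two, s', hTh.sq s hs]))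
            (fun e => hs1 (congrArg Subtype.val e))))]
      exact mem_cent.2 hcs
    obtain ⟨d, hd, rfl⟩ := hc
    refine ⟨d * w * d⁻¹, mem_subgroupOf.2 ?_, by simp⟩
    exact hn d (mem_cent.1 d.2) (congrArg Subtype.val (mem_cent.1 hd).eq) w (mem_subgroupOf.1 hw)

/-- in a covering subgroup the normaliser of `S` moves the involutions other than `t` -/
theorem cent_mover {H : Subgroup G} (hSH : (S : Subgroup G) ≤ H) (hcov : Cov t H) :
    ∃ n ∈ H, Commute n t ∧ (∀ x ∈ S, n * x * n⁻¹ ∈ S) ∧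
      ∀ x ∈ S, x ≠ 1 → x ≠ t → n * x * n⁻¹ ≠ x ∧ n * (n * x * n⁻¹) * n⁻¹ ≠ x := by
  haveI : Fact (Nat.Prime 2) := ⟨Nat.prime_two⟩
  obtain ⟨F, i1, i2, E, E₀, h⟩ := exists_top hTh htS ht1
  obtain ⟨σ, -, hσT, hσm⟩ := h.exists_mover
  obtain ⟨σ', rfl⟩ := QuotientGroup.mk'_surjective _ σ
  obtain ⟨o, ho, k, hk, hkt, e⟩ := hcov σ' (mem_cent.1 σ'.2)
  set k' : ↥(centralizer ({t} : Set G)) := ⟨k, mem_cent.2 hkt⟩ with hk'
  have hqk : qc t k' = qc t σ' := by
    have : qc t (σ' * k'⁻¹) = 1 := qc_eq_one.2 (by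
      push_cast
      rw [e, show (o * k) * k⁻¹ = o by group]
      exact ho)
    rw [map_mul, map_inv, mul_inv_eq_one] at this
    exact this.symm
  set W := H ⊓ (Oc t ⊔ (S : Subgroup G)) with hW
  have hSW : (S : Subgroup G) ≤ W := le_inf hSH le_sup_right
  have hSn : (S : Subgroup G) ≤ normalizer (Oc t : Set G) := (sylow_le_cent hTh htS ht1).trans (oc_norm t)
  have hWC : W ≤ centralizer ({t} : Set G) := inf_le_right.trans
    (sup_le (Cfsg.Lib.Components.centralizerPPrimeCore_le_centralizer t) (sylow_le_cent hTh htS ht1))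
  have hSkW : conjMap k (S : Subgroup G) ≤ W := by
    intro x hx
    rw [mem_conjMap] at hx
    refine mem_inf.2 ⟨?_, ?_⟩
    · have := mul_mem (mul_mem hk (hSH hx)) (inv_mem hk)
      simpa [mul_assoc] using this
    · set r : ↥(centralizer ({t} : Set G)) := ⟨k⁻¹ * x * k, sylow_le_cent hTh htS ht1 hx⟩ with hr
      have h1 : qc t (k' * r * k'⁻¹) ∈ qT hTh htS ht1 := by
        rw [map_mul, map_mul, map_inv, hqk]
        exact hσT _ ((mem_qT hTh htS ht1).2 ⟨r, hx, rfl⟩)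
      obtain ⟨s, hs, es⟩ := (mem_qT hTh htS ht1).1 h1
      obtain ⟨o', ho', eo⟩ := qc_eq es.symm
      have e' : x = (s : G) * o' := by rw [← eo]; simp [k', r, mul_assoc]
      rw [e']
      exact mul_mem (mem_sup_right hs) (mem_sup_left ho')
  obtain ⟨w, hw⟩ := MulAction.exists_smul_eq ↥W (Sylow.ofCard ((conjMap k (S : Subgroup G)).subgroupOf W) (by
    rw [Nat.card_congr (subgroupOfEquivOfLe hSkW).toEquiv, card_conjMap,
      ← Nat.card_congr (subgroupOfEquivOfLe hSW).toEquiv]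
    exact (S.subtype hSW).card_eq_multiplicity)) (S.subtype hSW)
  have hn : ∀ x ∈ S, (w : G) * k * x * ((w : G) * k)⁻¹ ∈ S := by
    intro x hx
    have hxk : k * x * k⁻¹ ∈ conjMap k (S : Subgroup G) := mem_conjMap.2 (by
      rw [show k⁻¹ * (k * x * k⁻¹) * k = x by group]; exact hx)
    have : w * (⟨k * x * k⁻¹, hSkW hxk⟩ : W) * w⁻¹ ∈ ((S.subtype hSW : Sylow 2 W) : Subgroup W) := by
      rw [← hw]; exact ⟨_, mem_subgroupOf.2 hxk, rfl⟩
    have h2 := mem_subgroupOf.1 this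
    rw [show (w : G) * k * x * ((w : G) * k)⁻¹ = (w : G) * (k * x * k⁻¹) * (w : G)⁻¹ by group]
    exact h2
  have hwS : (w : G) ∈ Oc t ⊔ (S : Subgroup G) := (mem_inf.1 w.2).2
  refine ⟨w * k, mul_mem (mem_inf.1 w.2).1 hk, (mem_cent.1 (hWC w.2)).mul_left hkt, hn, ?_⟩
  set w' : ↥(centralizer ({t} : Set G)) := ⟨w, hWC w.2⟩ with hw'
  have hwT : qc t w' ∈ qT hTh htS ht1 := by
    obtain ⟨s, hs, o', ho', eo⟩ := (mem_sup_of_le_normalizer' hSn).1 hwS
    refine (mem_qT hTh htS ht1).2 ⟨⟨s, sylow_le_cent hTh htS ht1 hs⟩, hs, ?_⟩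
    have : qc t (⟨s, sylow_le_cent hTh htS ht1 hs⟩⁻¹ * w') = 1 := qc_eq_one.2 (by
      show s⁻¹ * (w : G) ∈ Oc t
      rw [← eo, inv_mul_cancel_left]; exact ho')
    rwa [map_mul, map_inv, inv_mul_eq_one] at this
  -- the action of `w k` on the image is that of `σ`
  have hact : ∀ x : ↥(centralizer ({t} : Set G)), (x : G) ∈ S →
      qc t (w' * k' * x * (w' * k')⁻¹) = qc t σ' * qc t x * (qc t σ')⁻¹ := by
    intro x hx
    have hc := h.commute hwT (hσT _ ((mem_qT hTh htS ht1).2 ⟨x, hx, rfl⟩))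
    rw [show w' * k' * x * (w' * k')⁻¹ = w' * (k' * x * k'⁻¹) * w'⁻¹ by group, map_mul, map_mul, map_inv,
      map_mul, map_mul, map_inv, hqk, hc.eq, mul_inv_cancel_right]
  intro x hx hx1 hxt
  set x' : ↥(centralizer ({t} : Set G)) := ⟨x, sylow_le_cent hTh htS ht1 hx⟩ with hx'
  obtain ⟨m1, m2⟩ := hσm (qc t x') ((mem_qT hTh htS ht1).2 ⟨x', hx, rfl⟩)
    (fun e' => hx1 (oc_of_two (hTh.sq x hx) (qc_eq_one.1 e' : (x' : G) ∈ Oc t)))
    (fun e' => hxt (congrArg Subtype.val (qc_inj hTh htS ht1 (x := x') (y := ⟨t, _⟩) hx htS e')))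
  refine ⟨fun e' => m1 ?_, fun e' => m2 ?_⟩
  · rw [← hact x' hx]
    exact congrArg _ (Subtype.ext (by simpa [w', k', x'] using e'))
  · have h1 := hact x' hx
    have h2 := hact ⟨_, sylow_le_cent hTh htS ht1 (hn x hx)⟩ (hn x hx)
    have e1 : (⟨_, sylow_le_cent hTh htS ht1 (hn x hx)⟩ : ↥(centralizer ({t} : Set G))) =
        w' * k' * x' * (w' * k')⁻¹ := Subtype.ext (by simp [w', k', x'])
    rw [e1] at h2
    rw [← h1, ← h2]
    exact congrArg _ (Subtype.ext (by simpa [w', k', x', mul_assoc] using e'))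

end

end Cfsg.Lib.Walter.R3
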