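import Cfsg.Agent.FourGroupGW.LocalZJ
import Cfsg.Agent.FourGroupGW.Local

/-!
Walter, the branch of rank three: `ZJ` factorisation over a solvable centralizer of `O_p`.
-/

set_option autoImplicit false
set_option linter.style.haveILetI false
set_option linter.unusedSectionVars false

namespace Cfsg.Lib.Walter.R3

open Subgroup Cfsg.Lib.ZJ Cfsg.Lib.GW

universe u

variable {G : Type u} [Group G] [Finite G] {p : ℕ} [Fact p.Prime]

/-- Glauberman's factorisation when `O_p` has a solvable centralizer -/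
theorem sup_normalizer_zj (hp : p ≠ 2) (hab : ∀ S : Sylow 2 G, ∀ x ∈ S, ∀ y ∈ S, x * y = y * x)
    (hC : Group.IsSolvable ↥(centralizer (Cfsg.pCore p G : Set G))) (P : Sylow p G) :
    Cfsg.pPrimeCore p G ⊔ normalizer (Cfsg.centerThompsonAOf (P : Subgroup G) : Set G) = ⊤ := by
  set N := Cfsg.pPrimeCore p G with hNdef
  have hN : (Nat.card N).Coprime p := Cfsg.Lib.Components.coprime_card_pPrimeCore p
  set π := QuotientGroup.mk' N with hπ
  have hπs : Function.Surjective π := QuotientGroup.mk'_surjective N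
  have hinj := injOn_mk hN P.2
  have hc0 : Cfsg.pPrimeCore p (G ⧸ N) = ⊥ := Cfsg.Lib.Components.pPrimeCore_quotient_eq_bot
  have hab' := abelian_two_map π hπs hab
  have hst : Stable p (G ⧸ N) := stable_of_isPStableOn fun B _ hB =>
    Cfsg.Lib.QuadPair.stable_of_qd_free hp (Nat.card B) (G ⧸ N)
      (fun ⟨K, R, hR, h⟩ => Cfsg.Lib.AbQSq.qd_free_of_abelian_two hp hab' ⟨K, R, hR, h⟩) B hB rfl
  -- the centralizer of `O_p` of the quotient has odd order
  set R := Cfsg.pCore p (G ⧸ N)
  set Op := Cfsg.pCore p G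
  have hOpR : Op.map π ≤ R := by
    haveI : (Op.map π).Normal := (inferInstance : Op.Normal).map π hπs
    exact Cfsg.Lib.Components.le_pCore ((Cfsg.Lib.Components.isPGroup_pCore p).map π)
  have hOpN : Op ⊓ N = ⊥ := by
    refine inf_eq_bot_of_coprime ?_
    obtain ⟨k, hk⟩ := IsPGroup.iff_card.1 (Cfsg.Lib.Components.isPGroup_pCore (G := G) p)
    rw [show Nat.card Op = p ^ k from hk]
    exact (Nat.Coprime.pow_right k hN).symm
  have hle : centralizer (R : Set (G ⧸ N)) ≤ (centralizer (Op : Set G)).map π := by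
    intro y hy
    obtain ⟨x, rfl⟩ := hπs y
    refine ⟨x, mem_centralizer_iff.2 fun a ha => ?_, rfl⟩
    have h1 := mem_centralizer_iff.1 hy (π a) (hOpR (mem_map_of_mem π ha))
    have h2 : x * a * x⁻¹ * a⁻¹ ∈ N := (QuotientGroup.eq_one_iff _).1 (show π (x * a * x⁻¹ * a⁻¹) = 1 by
      rw [map_mul, map_mul, map_mul, map_inv, map_inv, ← h1, mul_inv_cancel_right, mul_inv_cancel])
    have h3 : x * a * x⁻¹ * a⁻¹ ∈ Op :=
      mul_mem ((inferInstance : Op.Normal).conj_mem a ha x) (inv_mem ha)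
    have h4 : x * a * x⁻¹ * a⁻¹ = 1 := mem_bot.1 (hOpN ▸ mem_inf.2 ⟨h3, h2⟩)
    exact (mul_inv_eq_iff_eq_mul.1 (mul_inv_eq_one.1 h4)).symm
  set X := centralizer (R : Set (G ⧸ N)) with hX
  haveI : Group.IsSolvable X :=
    Cfsg.Lib.Coprime.isSolvable_of_le hle (Cfsg.Lib.Coprime.isSolvable_map hC π)
  haveI : X.Normal := Subgroup.normal_centralizer
  have hXc : Cfsg.pPrimeCore p X = ⊥ := by
    haveI : (Cfsg.pPrimeCore p X).Characteristic := Cfsg.Lib.Components.pPrimeCore_characteristic
    haveI : ((Cfsg.pPrimeCore p X).map X.subtype).Normal := ConjAct.normal_of_characteristic_of_normal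
    have h1 : (Cfsg.pPrimeCore p X).map X.subtype ≤ Cfsg.pPrimeCore p (G ⧸ N) :=
      Cfsg.Lib.Components.le_pPrimeCore (by
        rw [card_map_of_injective X.subtype_injective]
        exact Cfsg.Lib.Components.coprime_card_pPrimeCore p)
    rw [hc0, le_bot_iff] at h1
    exact (map_eq_bot_iff_of_injective _ X.subtype_injective).1 h1
  have hcons : X ≤ R := by
    intro y hy
    haveI : ((Cfsg.pCore p X).map X.subtype).Normal := ConjAct.normal_of_characteristic_of_normal
    have hXR : (Cfsg.pCore p X).map X.subtype ≤ R :=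
      Cfsg.Lib.Components.le_pCore ((Cfsg.Lib.Components.isPGroup_pCore p).map _)
    have h1 : (⟨y, hy⟩ : X) ∈ centralizer (Cfsg.pCore p X : Set X) := mem_centralizer_iff.2 fun a ha =>
      Subtype.ext (mem_centralizer_iff.1 hy a (hXR (mem_map_of_mem _ ha)))
    exact hXR ⟨_, Cfsg.Lib.Coprime.centralizer_pCore_le p hXc h1, rfl⟩
  have hn := centerThompsonA_normal (S := P.mapSurjective hπs) hp hst hcons (stronglyClosed_self _)
  change (Cfsg.centerThompsonAOf ((P : Subgroup G).map π)).Normal at hn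
  rw [← centerThompsonAOf_map_injOn hinj] at hn
  set Z := Cfsg.centerThompsonAOf (P : Subgroup G)
  haveI := hn
  set M := (Z.map π).comap π
  have hM : M = N ⊔ Z := by
    show (Z.map π).comap π = _
    rw [comap_map_eq, QuotientGroup.ker_mk', sup_comm]
  have hZP : Z ≤ (P : Subgroup G) :=
    (inf_le_left : Z ≤ Cfsg.thompsonSubgroupAOf (P : Subgroup G)).trans (map_subtype_le _)
  have hPM : (P : Subgroup G) ⊓ M = Z := by
    refine le_antisymm (fun x hx => ?_) (le_inf hZP (hM ▸ le_sup_right))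
    obtain ⟨z, hz, hzx⟩ := hx.2
    rw [← hinj (hZP hz) hx.1 hzx]
    exact hz
  have hfr := sup_normalizer_inf_eq_top M P
  rw [hPM, hM, sup_assoc, sup_eq_right.mpr le_normalizer] at hfr
  exact hfr

theorem normalizer_le_normalizer_zj (Q : Subgroup G) :
    normalizer (Q : Set G) ≤ normalizer (Cfsg.centerThompsonAOf Q : Set G) := by
  intro g hg
  refine Cfsg.Lib.GW.mem_normalizer_finite fun x hx => ?_
  have h : (Cfsg.centerThompsonAOf Q).map (MulAut.conj g).toMonoidHom = Cfsg.centerThompsonAOf Q := by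
    rw [centerThompsonAOf_map_injOn ((MulAut.conj g).injective.injOn)]
    congr 1
    exact Cfsg.Lib.Coprime.conjMap_eq_self hg
  rw [← h]
  exact ⟨x, hx, rfl⟩

end Cfsg.Lib.Walter.R3
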