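import Cfsg.Agent.Walter.RankThree.Locals
import Cfsg.Agent.Walter.RankThree.ZJ
import Cfsg.Agent.AbCentMax.Main

/-!
Walter, the branch of rank three: maximal covered `p`-subgroups.
-/

set_option autoImplicit false
set_option linter.unusedSectionVars false
set_option linter.style.haveILetI false

namespace Cfsg.Lib.Walter.R3

open Subgroup Cfsg.Lib.Coprime
open Cfsg.Lib.GW (Core core_le le_normalizer_core)

universe u

variable {G : Type u} [Group G] [Finite G]

/-- `P` is a Sylow `p`-subgroup of `O(C(a))`, invariant under `S` and not centralised by it. -/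
structure Pt (S : Sylow 2 G) (a : G) (p : ℕ) (P : Subgroup G) : Prop where
  env : Env S
  mem : a ∈ S
  ne_one : a ≠ 1
  odd : p ≠ 2
  le : P ≤ Oc a
  pgroup : IsPGroup p ↥P
  inv : (S : Subgroup G) ≤ normalizer (P : Set G)
  max : ∀ R : Subgroup G, P ≤ R → R ≤ Oc a → IsPGroup p ↥R → R = P
  moved : ¬ (S : Subgroup G) ≤ centralizer (P : Set G)

/-- the `p`-groups over `P` in competition -/
def Good (S : Sylow 2 G) (a : G) (p : ℕ) (P R : Subgroup G) : Prop :=
  P ≤ R ∧ IsPGroup p ↥R ∧ (S : Subgroup G) ≤ normalizer (R : Set G) ∧ Cov a (normalizer (R : Set G))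

variable {S : Sylow 2 G} {a : G} {p : ℕ} {P : Subgroup G}

theorem le_normalizer_centralizer {U : Subgroup G} :
    normalizer (U : Set G) ≤ normalizer (centralizer (U : Set G) : Set G) := fun g hg =>
  Cfsg.Lib.GW.mem_normalizer_finite fun c hc => mem_centralizer_iff.2 fun u hu => by
    have h1 := mem_centralizer_iff.1 hc (g⁻¹ * u * g) ((mem_normalizer_iff''.1 hg u).1 hu)
    calc u * (g * c * g⁻¹) = g * ((g⁻¹ * u * g) * c) * g⁻¹ := by group
      _ = _ := by rw [h1]; group

theorem coprime_sylow (hTh : Three S) {K : Subgroup G} (hK : Odd (Nat.card ↥K)) :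
    (Nat.card ↥(S : Subgroup G)).Coprime (Nat.card ↥K) := by
  rw [hTh.card]
  exact (Nat.coprime_two_left.2 hK).pow_left 3

theorem solvable_sylow (hTh : Three S) : Group.IsSolvable ↥(S : Subgroup G) :=
  Group.isSolvable_of_comm fun x y => Subtype.ext (comm_of_sq (T := (S : Subgroup G)) hTh.sq x.2 y.2).eq

theorem card_le_sylow [Fact p.Prime] {K R : Subgroup G} (T : Sylow p ↥K) (hRK : R ≤ K) (hR : IsPGroup p ↥R) :
    Nat.card ↥R ≤ Nat.card ↥((T : Subgroup ↥K).map K.subtype) := by
  obtain ⟨U, hU⟩ := (hR.of_equiv (subgroupOfEquivOfLe hRK).symm).exists_le_sylow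
  rw [card_map_of_injective K.subtype_injective, T.card_eq_multiplicity, ← U.card_eq_multiplicity,
    ← Nat.card_congr (subgroupOfEquivOfLe hRK).toEquiv]
  exact card_le_of_le hU

theorem sylow_max [Fact p.Prime] {K : Subgroup G} (T : Sylow p ↥K) {R : Subgroup G}
    (h : (T : Subgroup ↥K).map K.subtype ≤ R) (hRK : R ≤ K) (hR : IsPGroup p ↥R) :
    R = (T : Subgroup ↥K).map K.subtype :=
  (eq_of_le_of_card_ge h (card_le_sylow T hRK hR)).symm

theorem Pt.ne_bot (h : Pt S a p P) : P ≠ ⊥ := fun e => h.moved fun s _ =>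
  mem_centralizer_iff.2 fun x hx => by
    rw [e] at hx
    obtain rfl : x = 1 := hx
    simp

theorem Pt.self_good [Fact p.Prime] (h : Pt S a p P) : Good S a p P P := by
  refine ⟨le_rfl, h.pgroup, h.inv, fun x hx => ?_⟩
  obtain ⟨k, hk, hn⟩ := exists_norm_mul (oc_norm a) h.le h.pgroup h.max (mem_cent.2 hx)
  exact ⟨k, hk, k⁻¹ * x, hn, (oc_comm hk).inv_left.mul_left hx, (mul_inv_cancel_left k x).symm⟩

/-- a maximal competitor -/
structure Top0 (S : Sylow 2 G) (a : G) (p : ℕ) (P P₀ : Subgroup G) : Prop where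
  pt : Pt S a p P
  good : Good S a p P P₀
  maximal : ∀ R : Subgroup G, Good S a p P R → P₀ ≤ R → R = P₀

theorem Pt.exists_top [Fact p.Prime] (h : Pt S a p P) : ∃ P₀, Top0 S a p P P₀ := by
  obtain ⟨P₀, h0, hmax⟩ := WellFounded.has_min (wellFounded_gt (α := Subgroup G))
    {R | Good S a p P R} ⟨P, h.self_good⟩
  exact ⟨P₀, h, h0, fun R hR hle => by
    by_contra hne
    exact hmax R hR (lt_of_le_of_ne hle (Ne.symm hne))⟩

variable {P₀ : Subgroup G}

theorem Top0.ne_bot (h : Top0 S a p P P₀) : P₀ ≠ ⊥ := fun e => h.pt.ne_bot (le_bot_iff.1 (e ▸ h.good.1))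

theorem proper_normalizer [Fact p.Prime] (hm : Min G) {X : Subgroup G} (hX : IsPGroup p ↥X) (hne : X ≠ ⊥) :
    normalizer (X : Set G) ≠ ⊤ := by
  intro h
  haveI := hm.simple
  haveI := normalizer_eq_top_iff.1 h
  rcases IsSimpleGroup.eq_bot_or_eq_top_of_normal X inferInstance with e | e
  · exact hne e
  · haveI : Group.IsNilpotent ↥X := hX.isNilpotent
    haveI : Group.IsSolvable ↥(⊤ : Subgroup G) := e ▸ (inferInstance : Group.IsSolvable ↥X)
    haveI : Group.IsSolvable G :=
      Group.isSolvable_of_surjective (f := (⊤ : Subgroup G).subtype) fun x => ⟨⟨x, mem_top x⟩, rfl⟩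
    exact hm.nab ⟨⟨IsSimpleGroup.comm_iff_isSolvable.2 inferInstance⟩⟩

theorem Top0.over [Fact p.Prime] (h : Top0 S a p P P₀) : Over S a (normalizer (P₀ : Set G)) :=
  ⟨h.pt.env, proper_normalizer h.pt.env.min h.good.2.1 h.ne_bot, h.good.2.2.1, h.pt.mem, h.pt.ne_one, h.good.2.2.2⟩

theorem Top0.le_core [Fact p.Prime] (h : Top0 S a p P P₀) : P₀ ≤ Core (normalizer (P₀ : Set G)) :=
  Cfsg.Lib.Walter.R3.le_core le_normalizer le_rfl (odd_card_pgroup h.pt.odd h.good.2.1)

/-- the competitor is a Sylow subgroup of every covered core containing it -/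
theorem Top0.max_core [Fact p.Prime] (h : Top0 S a p P P₀) {H : Subgroup G} (hH : Over S a H)
    (hle : P₀ ≤ Core H) {R : Subgroup G} (h0 : P₀ ≤ R) (hR : R ≤ Core H) (hRp : IsPGroup p ↥R) : R = P₀ := by
  have hTh := h.pt.env.three
  obtain ⟨T, hT0, hTS⟩ := exists_invariant_sylow_ge (A := (S : Subgroup G)) (K := Core H)
    (hH.le.trans (le_normalizer_core H)) (coprime_sylow hTh (Cfsg.Lib.GW.Frame.odd_card_core H))
    (Or.inl (solvable_sylow hTh)) p hle h.good.2.1 h.good.2.2.1
  set R' := (T : Subgroup ↥(Core H)).map (Core H).subtype with hR'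
  have hgood : Good S a p P R' :=
    ⟨h.good.1.trans hT0, T.2.map _, hTS, (hH.cov.frattini hH.aa hH.mem_H (map_subtype_le _) (T.2.map _)
      (fun U hU hUK hUp => sylow_max T hU hUK hUp) (hTS hH.mem)).mono inf_le_left⟩
  have he := h.maximal R' hgood hT0
  refine (eq_of_le_of_card_ge h0 ?_).symm
  have := card_le_sylow T hR hRp
  rwa [← hR', he] at this

/-- the fixed points of `a` on the competitor -/
theorem Top0.inf_cent [Fact p.Prime] (h : Top0 S a p P P₀) {x : G} (hx : x ∈ P₀) (hxa : Commute x a) :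
    x ∈ Oc a :=
  h.over.cov.core_inf_le (h.le_core hx) hxa

/-- when `a` is central modulo the core, so is the centraliser of the competitor -/
theorem Top0.cent_core [Fact p.Prime] (h : Top0 S a p P P₀) (hiso : Iso S a (normalizer (P₀ : Set G))) {d : G}
    (hd : d ∈ centralizer (P₀ : Set G)) :
    d ∈ Core (normalizer (P₀ : Set G)) ∨ a * d ∈ Core (normalizer (P₀ : Set G)) := by
  set H := normalizer (P₀ : Set G) with hH
  have hO := h.over
  have hTh := h.pt.env.three
  have hCH : centralizer (P₀ : Set G) ≤ H := centralizer_le_normalizer _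
  have hPa : ∀ x ∈ P, Commute a x := fun x hx => (oc_comm (h.pt.le hx)).symm
  set D := centralizer (P₀ : Set G) ⊓ centralizer ({a} : Set G) with hD
  set N := D ⊔ Oc a with hN
  have hDn : D ≤ normalizer (Oc a : Set G) := inf_le_right.trans (oc_norm a)
  have hNC : N ≤ centralizer ({a} : Set G) :=
    sup_le inf_le_right (Cfsg.Lib.Components.centralizerPPrimeCore_le_centralizer a)
  have hNn : centralizer ({a} : Set G) ≤ normalizer (N : Set G) := by
    intro c hc
    obtain ⟨o, ho, k, hk, hka, rfl⟩ := hO.cov c (mem_cent.1 hc)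
    refine mul_mem (le_normalizer (mem_sup_right ho)) ?_
    exact le_normalizer_sup (H := H ⊓ centralizer ({a} : Set G))
      (le_normalizer_inf (inf_le_left.trans le_normalizer_centralizer) (inf_le_right.trans le_normalizer))
      (inf_le_right.trans (oc_norm a)) (mem_inf.2 ⟨hk, mem_cent.2 hka⟩)
  rcases cent_cases hTh h.pt.mem h.pt.ne_one hNC hNn with hN' | hN'
  · -- the coset of `d` has a point commuting with `a`
    have haP : a ∈ H := hO.mem_H
    obtain ⟨k, hk, c, hc, hca, rfl⟩ := hO.factor hiso (hCH hd)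
    set K := Core H ⊓ centralizer (P₀ : Set G) with hK
    have hKa : ∀ e ∈ K, a * e * a⁻¹ ∈ K := fun e he => mem_inf.2 ⟨core_norm haP (mem_inf.1 he).1,
      (mem_normalizer_iff.1 (le_normalizer_centralizer haP) e).1 (mem_inf.1 he).2⟩
    obtain ⟨e, he, hea⟩ := exists_commute_mul hO.aa
      ((Cfsg.Lib.GW.Frame.odd_card_core H).of_dvd_nat (card_dvd_of_le inf_le_left)) hKa (k := k * c) (by
        refine mem_inf.2 ⟨?_, ?_⟩
        · have h1 := core_norm (inv_mem hc) (mul_mem (inv_mem hk) (core_norm haP hk))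
          have e1 : (k * c)⁻¹ * a * (k * c) * a⁻¹ = c⁻¹ * (k⁻¹ * (a * k * a⁻¹)) * c⁻¹⁻¹ := by
            rw [show (k * c)⁻¹ * a * (k * c) * a⁻¹ = c⁻¹ * (k⁻¹ * (a * k * a⁻¹)) * (a * c * a⁻¹) by group,
              ← hca.eq, mul_inv_cancel_right, inv_inv]
          rwa [e1]
        · rw [show (k * c)⁻¹ * a * (k * c) * a⁻¹ = (k * c)⁻¹ * (a * (k * c) * a⁻¹) by group]
          exact mul_mem (inv_mem hd) ((mem_normalizer_iff.1 (le_normalizer_centralizer haP) _).1 hd))
    have heC : e ∈ Core H := (mem_inf.1 he).1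
    have hde : k * c * e ∈ N := mem_sup_left (mem_inf.2 ⟨mul_mem hd (mem_inf.1 he).2, mem_cent.2 hea⟩)
    have hkcH : k * c * e ∈ H := mul_mem (hCH hd) (core_le H heC)
    rcases hN' _ hde with e' | e'
    · exact Or.inl (by simpa using mul_mem (hO.oc_inf e' hkcH) (inv_mem heC))
    · refine Or.inr ?_
      have := mul_mem (hO.oc_inf e' (mul_mem haP hkcH)) (inv_mem heC)
      rwa [mul_assoc, mul_assoc (k * c), mul_inv_cancel, mul_one] at this
  · exfalso
    refine h.pt.moved fun s hs => ?_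
    -- an element of `S` congruent to an element centralising `P` centralises it
    have key : ∀ r ∈ S, ∀ m ∈ N, ∀ o ∈ Oc a, r = m * o → ∀ x ∈ P, Commute r x := by
      intro r hr m hm o ho hrm x hx
      obtain ⟨c, hc, o₁, ho₁, rfl⟩ := (mem_sup_of_le_normalizer' hDn).1 ((sup_comm D (Oc a)).le hm)
      set q := o₁ * o with hq
      have hrq : r = c * q := by rw [hrm, hq, mul_assoc]
      have hcx : ∀ y ∈ P, c * y * c⁻¹ = y := fun y hy => by
        rw [← mem_centralizer_iff.1 (mem_inf.1 hc).1 y (h.good.1 hy), mul_inv_cancel_right]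
      have hqn : ∀ y ∈ P, q * y * q⁻¹ = r * y * r⁻¹ := fun y hy => by
        have hqP : q * y * q⁻¹ ∈ P := by
          have hy' : r * y * r⁻¹ ∈ P := (mem_normalizer_iff.1 (h.pt.inv hr) y).1 hy
          have e1 : c⁻¹ * (r * y * r⁻¹) * c = r * y * r⁻¹ := by
            calc c⁻¹ * (r * y * r⁻¹) * c = c⁻¹ * (c * (r * y * r⁻¹) * c⁻¹) * c := by rw [hcx _ hy']
              _ = r * y * r⁻¹ := by group
          rw [show q * y * q⁻¹ = c⁻¹ * (r * y * r⁻¹) * c by rw [hrq]; group, e1]
          exact hy'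
        rw [hrq, show c * q * y * (c * q)⁻¹ = c * (q * y * q⁻¹) * c⁻¹ by group, hcx _ hqP]
      have hq2 : Commute (q * q) x := by
        have hrr : r * r = 1 := hTh.sq r hr
        refine mul_inv_eq_iff_eq_mul.1 ?_
        rw [show q * q * x * (q * q)⁻¹ = q * (q * x * q⁻¹) * q⁻¹ by group, hqn x hx,
          hqn _ ((mem_normalizer_iff.1 (h.pt.inv hr) x).1 hx),
          show r * (r * x * r⁻¹) * r⁻¹ = (r * r) * x * (r * r)⁻¹ by group, hrr, one_mul, inv_one, mul_one]
      obtain ⟨j, hj⟩ := AbCentMax.eq_sq_pow (x := q) (odd_orderOf (odd_oc a) (mul_mem ho₁ ho : q ∈ Oc a))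
      have hqx : Commute q x := by rw [hj]; exact hq2.pow_left j
      refine mul_inv_eq_iff_eq_mul.1 ?_
      rw [← hqn x hx, hqx.eq, mul_inv_cancel_right]
    obtain ⟨m, hm, o, ho, e | e⟩ := hN' s hs
    · exact mem_centralizer_iff.2 fun x hx => (key s hs m hm o ho e x hx).symm.eq
    · refine mem_centralizer_iff.2 fun x hx => ?_
      have h1 := key (a * s) ((S : Subgroup G).mul_mem h.pt.mem hs) m hm o ho
        (by rw [e, ← mul_assoc, hTh.sq a h.pt.mem, one_mul]) x hx
      have h2 := (hPa x hx).inv_left.mul_left h1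
      rw [inv_mul_cancel_left] at h2
      exact h2.symm.eq

end Cfsg.Lib.Walter.R3
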