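import Cfsg.Agent.Walter.RankThree.Basic
import Cfsg.Agent.AbCentMax.Frame
import Cfsg.Agent.FourGroupGW.Local
import Cfsg.Agent.GenDihedral.Red.Tools

/-!
Walter, the branch of rank three: the centraliser `⟨t⟩ × E` over its Sylow 2-subgroup of order eight.
-/

set_option autoImplicit false
set_option linter.unusedSectionVars false
set_option linter.style.haveILetI false

namespace Cfsg.Lib.Walter.R3

open Subgroup

universe u

/-- An automorphism of odd order of `PSL(2, q)`, `q ≡ 3, 5 (mod 8)`, fixing an involution centraliser is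
trivial. -/
def A3Spec : Prop :=
  ∀ (F : Type) [Field F] [Fintype F], (Fintype.card F % 8 = 3 ∨ Fintype.card F % 8 = 5) →
    ∀ φ : MulAut (Matrix.ProjectiveSpecialLinearGroup (Fin 2) F), Odd (orderOf φ) →
      5 ≤ Fintype.card F → ∀ t : Matrix.ProjectiveSpecialLinearGroup (Fin 2) F, orderOf t = 2 →
        (∀ x, Commute x t → φ x = x) → φ = 1

variable {G : Type u} [Group G] [Finite G]

/-- `C(t) = ⟨t⟩ × E` over a Sylow 2-subgroup of order eight. -/
structure Top (t : G) (E E₀ : Subgroup G) (F : Type) [Field F] [Fintype F] (T : Sylow 2 G) : Prop where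
  hyp : AbCentMax.Hyp t E E₀ F
  five : 5 ≤ Fintype.card F
  congr : Fintype.card F % 8 = 3 ∨ Fintype.card F % 8 = 5
  mem : t ∈ T
  card : Nat.card ↥(T : Subgroup G) = 8
  sq : ∀ x ∈ T, x * x = 1

theorem comm_of_sq {T : Subgroup G} (h : ∀ x ∈ T, x * x = 1) {x y : G} (hx : x ∈ T) (hy : y ∈ T) :
    Commute x y := by
  have hi : ∀ z ∈ T, z⁻¹ = z := fun z hz => inv_eq_of_mul_eq_one_right (h z hz)
  show x * y = y * x
  rw [← hi (x * y) (mul_mem hx hy), mul_inv_rev, hi x hx, hi y hy]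

theorem order_two {T : Subgroup G} (h : ∀ x ∈ T, x * x = 1) {x : G} (hx : x ∈ T) (h1 : x ≠ 1) :
    orderOf x = 2 := orderOf_eq_prime (by rw [pow_two, h x hx]) h1

variable {t : G} {E E₀ : Subgroup G} {F : Type} [Field F] [Fintype F] {T : Sylow 2 G}
  (h : Top t E E₀ F T)
include h

theorem Top.commute {x y : G} (hx : x ∈ T) (hy : y ∈ T) : Commute x y :=
  comm_of_sq (T := (T : Subgroup G)) h.sq hx hy

theorem Top.le_cent : (T : Subgroup G) ≤ centralizer ({t} : Set G) := fun _ hx =>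
  mem_cent.2 (h.commute hx h.mem)

theorem Top.socle_le : E₀ ≤ centralizer ({t} : Set G) := fun x hx =>
  mem_cent.2 (h.hyp.comm x (h.hyp.le hx)).symm

theorem Top.simple : IsSimpleGroup ↥E₀ := by
  obtain ⟨f⟩ := h.hyp.iso
  haveI : IsSimpleGroup (Matrix.ProjectiveSpecialLinearGroup (Fin 2) F) :=
    Matrix.ProjectiveSpecialLinearGroup.rank_two_simple (by
      rw [Nat.card_eq_fintype_card]; have := h.five; omega)
  haveI : Nontrivial E₀ := f.toEquiv.nontrivial
  exact IsSimpleGroup.isSimpleGroup_of_surjective f.symm.toMonoidHom f.symm.surjective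

/-- the elements of `C(t)` normalise the socle -/
theorem Top.norm {x e : G} (hx : Commute x t) (he : e ∈ E₀) : x * e * x⁻¹ ∈ E₀ := by
  obtain ⟨k, hk, rfl | rfl⟩ := h.hyp.split x hx
  · exact h.hyp.norm _ hk _ he
  · rw [show t * k * e * (t * k)⁻¹ = t * (k * e * k⁻¹) * t⁻¹ by group,
      (h.hyp.comm _ (h.hyp.le (h.hyp.norm _ hk _ he))).eq, mul_inv_cancel_right]
    exact h.hyp.norm _ hk _ he

theorem Top.proj {x : G} (hx : x ∈ T) : x ∈ E₀ ∨ t * x ∈ E₀ := by
  classical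
  haveI : Fact (Nat.Prime 2) := ⟨Nat.prime_two⟩
  set C := centralizer ({t} : Set G) with hC
  set T' : Sylow 2 C := T.subtype h.le_cent
  haveI : (E₀.subgroupOf C).Normal := ⟨fun e he c => h.norm (mem_cent.1 c.2) he⟩
  obtain ⟨k, m, hk, hm, hcard⟩ := Cfsg.Lib.GenDihedral.card_inf_sylow T' (E₀.subgroupOf C)
  obtain ⟨f⟩ := h.hyp.iso
  have h4 : 4 ∣ Nat.card E₀ := by
    rw [Nat.card_congr f.toEquiv]
    obtain ⟨P⟩ := (inferInstance : Nonempty (Sylow 2 (Matrix.ProjectiveSpecialLinearGroup (Fin 2) F)))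
    haveI := Cfsg.Agent.S0276.result rfl h.congr P
    rw [← (show Nat.card (P : Subgroup (Matrix.ProjectiveSpecialLinearGroup (Fin 2) F)) = 4 from
      IsKleinFour.card_four)]
    exact card_subgroup_dvd_card _
  rw [← Nat.card_congr (subgroupOfEquivOfLe h.socle_le).toEquiv, hcard] at h4
  have hk4 : 4 ∣ 2 ^ k := (Nat.Coprime.dvd_of_dvd_mul_right
    (Nat.Coprime.pow_left 2 (Nat.coprime_two_left.2 hm) : (2 ^ 2).Coprime m) h4)
  have hinf : Nat.card ((T : Subgroup G) ⊓ E₀ : Subgroup G) = 2 ^ k := by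
    rw [← hk]
    refine (Nat.card_congr ?_).symm
    exact ((equivMapOfInjective _ C.subtype C.subtype_injective).trans (MulEquiv.subgroupCongr (by
      rw [Subgroup.map_inf _ _ _ C.subtype_injective, map_subgroupOf_eq_of_le h.socle_le,
        show (T' : Subgroup C) = (T : Subgroup G).subgroupOf C from rfl,
        map_subgroupOf_eq_of_le h.le_cent]))).toEquiv
  have hlt : ((T : Subgroup G) ⊓ E) < (T : Subgroup G) :=
    lt_of_le_of_ne inf_le_left fun e => h.hyp.disj (inf_eq_left.1 e h.mem)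
  obtain ⟨j, hj, hj'⟩ := (Nat.dvd_prime_pow Nat.prime_two).1
    (show Nat.card ((T : Subgroup G) ⊓ E : Subgroup G) ∣ 2 ^ 3 from (card_dvd_of_le hlt.le).trans h.card.dvd)
  have hjlt : Nat.card ((T : Subgroup G) ⊓ E : Subgroup G) < 8 := by
    rcases (card_le_of_le hlt.le).lt_or_eq with e | e
    · rwa [h.card] at e
    · exact absurd (eq_of_le_of_card_ge hlt.le e.ge) hlt.ne
  have heq : (T : Subgroup G) ⊓ E₀ = (T : Subgroup G) ⊓ E := by
    refine eq_of_le_of_card_ge (inf_le_inf_left _ h.hyp.le) ?_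
    have h1 : 4 ≤ Nat.card ((T : Subgroup G) ⊓ E₀ : Subgroup G) := by
      rw [hinf]; exact Nat.le_of_dvd (Nat.two_pow_pos k) hk4
    rw [hj'] at hjlt ⊢
    interval_cases j <;> omega
  obtain ⟨e, he, rfl | rfl⟩ := h.hyp.split x (h.commute hx h.mem)
  · exact Or.inl (heq.ge (mem_inf.2 ⟨hx, he⟩)).2
  · refine Or.inr ?_
    rw [← mul_assoc, h.hyp.tt, one_mul]
    have : e ∈ (T : Subgroup G) := by
      have := (T : Subgroup G).mul_mem h.mem hx
      rwa [← mul_assoc, h.hyp.tt, one_mul] at this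
    exact (heq.ge (mem_inf.2 ⟨this, he⟩)).2

/-- two involutions of `T ∩ E₀` -/
theorem Top.exists_pair : ∃ a b : G, a ∈ T ∧ b ∈ T ∧ a ∈ E₀ ∧ b ∈ E₀ ∧ orderOf a = 2 ∧ orderOf b = 2 ∧
    a ≠ b := by
  classical
  haveI := Fintype.ofFinite ↥(T : Subgroup G)
  let pr : G → G := fun x => if x ∈ E₀ then x else t * x
  have hpr : ∀ x ∈ T, pr x ∈ E₀ ∧ pr x ∈ T ∧ (x ≠ 1 → x ≠ t → pr x ≠ 1) := by
    intro x hx
    simp only [pr]
    split_ifs with hxE
    · exact ⟨hxE, hx, fun h1 _ => h1⟩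
    · exact ⟨(h.proj hx).resolve_left hxE, (T : Subgroup G).mul_mem h.mem hx, fun _ h2 e => h2
        (by rw [eq_inv_of_mul_eq_one_right e, h.hyp.t_inv])⟩
  obtain ⟨x, -, hx⟩ := Finset.exists_mem_notMem_of_card_lt_card
    (s := ({1, ⟨t, h.mem⟩} : Finset ↥(T : Subgroup G))) (t := Finset.univ) (by
      rw [Finset.card_univ, ← Nat.card_eq_fintype_card, h.card]
      exact lt_of_le_of_lt Finset.card_le_two (by norm_num))
  simp only [Finset.mem_insert, Finset.mem_singleton, not_or] at hx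
  obtain ⟨hxE, hxT, hx1⟩ := hpr x x.2
  have hx0 := hx1 (fun e => hx.1 (Subtype.ext e)) (fun e => hx.2 (Subtype.ext e))
  obtain ⟨y, -, hy⟩ := Finset.exists_mem_notMem_of_card_lt_card
    (s := ({1, ⟨t, h.mem⟩, ⟨pr x, hxT⟩, ⟨t * pr x, (T : Subgroup G).mul_mem h.mem hxT⟩} : Finset ↥(T : Subgroup G)))
    (t := Finset.univ) (by
      rw [Finset.card_univ, ← Nat.card_eq_fintype_card, h.card]
      exact lt_of_le_of_lt Finset.card_le_four (by norm_num))
  simp only [Finset.mem_insert, Finset.mem_singleton, not_or] at hy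
  obtain ⟨hyE, hyT, hy1⟩ := hpr y y.2
  refine ⟨pr x, pr y, hxT, hyT, hxE, hyE, order_two (T := (T : Subgroup G)) h.sq hxT hx0,
    order_two (T := (T : Subgroup G)) h.sq hyT (hy1 (fun e => hy.1 (Subtype.ext e)) fun e => hy.2.1 (Subtype.ext e)),
    fun e => ?_⟩
  by_cases hE : (y : G) ∈ E₀
  · exact hy.2.2.1 (Subtype.ext ((if_pos hE).symm.trans e.symm))
  · exact hy.2.2.2 (Subtype.ext (by
      show (y : G) = t * pr x
      rw [show pr x = t * (y : G) from e.trans (if_neg hE), ← mul_assoc, h.hyp.tt, one_mul]))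

/-- an element of odd order of the socle centralising `T` is trivial -/
theorem Top.eq_one {y : G} (hy : y ∈ E₀) (ho : Odd (orderOf y)) (hc : ∀ x ∈ T, Commute y x) : y = 1 := by
  obtain ⟨a, b, haT, hbT, haE, hbE, ha, hb, hab⟩ := h.exists_pair
  exact h.hyp.eq_one_of_comm haE ha hbE hb hab (h.commute haT hbT) hy ho (hc a haT) (hc b hbT)

theorem Top.nonsolvable : ¬ Group.IsSolvable ↥(centralizer ({t} : Set G)) := fun hs => by
  haveI := h.simple
  obtain ⟨a, -, -, -, haE, -, ha, -, -⟩ := h.exists_pair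
  have hc : ∀ x y : E₀, x * y = y * x :=
    IsSimpleGroup.comm_iff_isSolvable.2 (Cfsg.Lib.Coprime.isSolvable_of_le h.socle_le hs)
  have := h.hyp.faith a (h.hyp.le haE) fun x hx => congrArg Subtype.val (hc ⟨a, haE⟩ ⟨x, hx⟩)
  rw [this, orderOf_one] at ha
  omega

/-- a subgroup of `C(t)` normalised by the socle contains it or lies in `⟨t⟩` -/
theorem Top.normal_cases {N : Subgroup G} (hN : N ≤ centralizer ({t} : Set G))
    (hn : ∀ g ∈ E₀, ∀ x ∈ N, g * x * g⁻¹ ∈ N) : E₀ ≤ N ∨ ∀ x ∈ N, x = 1 ∨ x = t := by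
  haveI := h.simple
  haveI : (N.subgroupOf E₀).Normal := ⟨fun x hx g => hn g g.2 x hx⟩
  rcases IsSimpleGroup.eq_bot_or_eq_top_of_normal (N.subgroupOf E₀) inferInstance with e | e
  · refine Or.inr fun x hx => ?_
    have hxt := mem_cent.1 (hN hx)
    have hc : ∀ g ∈ E₀, Commute x g := fun g hg => by
      have h1 : g * x * g⁻¹ * x⁻¹ ∈ N ⊓ E₀ := by
        refine mem_inf.2 ⟨mul_mem (hn g hg x hx) (inv_mem hx), ?_⟩
        rw [show g * x * g⁻¹ * x⁻¹ = g * (x * g⁻¹ * x⁻¹) by group]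
        exact mul_mem hg (h.norm hxt (inv_mem hg))
      rw [subgroupOf_eq_bot, disjoint_iff] at e
      rw [e, mem_bot, mul_inv_eq_one] at h1
      exact (mul_inv_eq_iff_eq_mul.1 h1).symm
    obtain ⟨k, hk, rfl | rfl⟩ := h.hyp.split x hxt
    · exact Or.inl (h.hyp.faith _ hk hc)
    · refine Or.inr ?_
      have hk1 : k = 1 := h.hyp.faith k hk fun g hg => by
        have := ((h.hyp.comm g (h.hyp.le hg)).inv_left).mul_left (hc g hg)
        rwa [inv_mul_cancel_left] at this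
      rw [hk1, mul_one]
  · exact Or.inl (subgroupOf_eq_top.1 e)

/-- `C(t)` has no nontrivial normal subgroup of odd order -/
theorem Top.odd_bot {N : Subgroup G} (hN : N ≤ centralizer ({t} : Set G))
    (hn : ∀ g ∈ E₀, ∀ x ∈ N, g * x * g⁻¹ ∈ N) (ho : Odd (Nat.card ↥N)) {x : G} (hx : x ∈ N) : x = 1 := by
  rcases h.normal_cases hN hn with e | e
  · obtain ⟨a, -, -, -, haE, -, ha, -, -⟩ := h.exists_pair
    exact absurd (odd_orderOf ho (e haE)) (by rw [ha]; decide)
  · refine (e x hx).resolve_right fun e' => ?_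
    exact absurd (odd_orderOf ho hx) (by rw [e', h.hyp.ord]; decide)

/-- an automorphism of odd order fixing an involution centraliser of the socle fixes the socle -/
theorem Top.fix_socle (hA3 : A3Spec) {φ : MulAut G} (hφ : E₀.map φ.toMonoidHom = E₀) (ho : Odd (orderOf φ))
    {s : G} (hs : s ∈ E₀) (hs2 : orderOf s = 2) (hfix : ∀ x ∈ E₀, Commute x s → φ x = x) :
    ∀ x ∈ E₀, φ x = x := by
  obtain ⟨f⟩ := h.hyp.iso
  set ψ : MulAut E₀ := (MulEquiv.subgroupMap φ E₀).trans (MulEquiv.subgroupCongr hφ) with hψ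
  have hψx : ∀ x : E₀, (ψ x : G) = φ x := fun x => rfl
  have hpow : ∀ (k : ℕ) (x : E₀), ((ψ ^ k) x : G) = (φ ^ k) x := by
    intro k
    induction k with
    | zero => intro x; rfl
    | succ k ih =>
      intro x
      rw [pow_succ, pow_succ]
      show ((ψ ^ k) (ψ x) : G) = (φ ^ k) (φ x)
      rw [ih, hψx]
  have hψo : Odd (orderOf ψ) := ho.of_dvd_nat (orderOf_dvd_of_pow_eq_one (MulEquiv.ext fun x =>
    Subtype.ext (by rw [hpow, pow_orderOf_eq_one]; rfl)))
  have hone : MulAut.congr f ψ = 1 := by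
    refine hA3 F h.congr _ ?_ h.five (f ⟨s, hs⟩) (by rw [f.orderOf_eq, orderOf_mk]; exact hs2) ?_
    · rwa [(MulAut.congr f).orderOf_eq]
    · intro x hx
      obtain ⟨y, rfl⟩ := f.surjective x
      show f (ψ (f.symm (f y))) = f y
      rw [f.symm_apply_apply]
      have hys : Commute (y : G) s := congrArg Subtype.val (f.injective (by rw [map_mul, map_mul]; exact hx.eq) :
        y * ⟨s, hs⟩ = ⟨s, hs⟩ * y)
      exact congrArg f (Subtype.ext (by rw [hψx, hfix y y.2 hys]))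
  intro x hx
  have h1 : f (ψ ⟨x, hx⟩) = f ⟨x, hx⟩ := by
    have := DFunLike.congr_fun hone (f ⟨x, hx⟩)
    simpa [MulAut.congr] using this
  rw [← hψx ⟨x, hx⟩, f.injective h1]

/-- no odd subgroup centralised by `T` is normalised by the centraliser of a four-group containing `t` -/
theorem Top.field (hA3 : A3Spec) {Y : Subgroup G} (hY : Y ≤ centralizer ({t} : Set G))
    (ho : Odd (Nat.card ↥Y)) (hT : ∀ y ∈ Y, ∀ x ∈ T, Commute y x) {s : G} (hs : s ∈ T) (hs1 : s ≠ 1)
    (hst : s ≠ t) (hn : ∀ c : G, Commute c t → Commute c s → ∀ y ∈ Y, c * y * c⁻¹ ∈ Y) {y : G}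
    (hy : y ∈ Y) : y = 1 := by
  have hyt := mem_cent.1 (hY hy)
  obtain ⟨s', hs'E, hs'2, hs'c⟩ : ∃ s' ∈ E₀, orderOf s' = 2 ∧ ∀ c, Commute c t → Commute c s' → Commute c s := by
    rcases h.proj hs with e | e
    · exact ⟨s, e, order_two (T := (T : Subgroup G)) h.sq hs hs1, fun _ _ hc => hc⟩
    · refine ⟨t * s, e, order_two (T := (T : Subgroup G)) h.sq ((T : Subgroup G).mul_mem h.mem hs) fun e' => hst ?_,
        fun c hct hc => ?_⟩
      · rw [eq_inv_of_mul_eq_one_right e', h.hyp.t_inv]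
      · have := hct.inv_right.mul_right hc
        rwa [inv_mul_cancel_left] at this
  have hyr := odd_orderOf ho hy
  have hmap : E₀.map (MulAut.conj y).toMonoidHom = E₀ := by
    refine eq_of_le_of_card_ge ?_ (card_map_of_injective (MulAut.conj y).injective).ge
    rintro _ ⟨x, hx, rfl⟩
    exact h.norm hyt hx
  have hc0 := h.fix_socle hA3 hmap (hyr.of_dvd_nat (orderOf_map_dvd MulAut.conj y)) hs'E hs'2 fun x hx hxs => by
    have hxt : Commute x t := (h.hyp.comm x (h.hyp.le hx)).symm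
    have hY' : x * y * x⁻¹ * y⁻¹ ∈ Y := mul_mem (hn x hxt (hs'c x hxt hxs) y hy) (inv_mem hy)
    have hE : x * y * x⁻¹ * y⁻¹ ∈ E₀ := by
      rw [show x * y * x⁻¹ * y⁻¹ = x * (y * x⁻¹ * y⁻¹) by group]
      exact mul_mem hx (h.norm hyt (inv_mem hx))
    have h1 := h.eq_one hE (odd_orderOf ho hY') (hT _ hY')
    show y * x * y⁻¹ = x
    rw [← mul_inv_eq_iff_eq_mul.1 (mul_inv_eq_one.1 h1), mul_inv_cancel_right]
  exact h.hyp.faith y (h.hyp.odd_mem_E hyr hyt) fun x hx => mul_inv_eq_iff_eq_mul.1 (hc0 x hx)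

/-- an automorphism fixing `t` leaves the socle invariant -/
theorem Top.socle_map {φ : MulAut G} (hφt : φ t = t) : E₀.map φ.toMonoidHom = E₀ := by
  set K := E₀.map φ.toMonoidHom with hK
  have hKC : K ≤ centralizer ({t} : Set G) := by
    rintro _ ⟨x, hx, rfl⟩
    exact mem_cent.2 (hφt ▸ ((h.hyp.comm x (h.hyp.le hx)).symm.map φ.toMonoidHom))
  have hKn : ∀ g ∈ E₀, ∀ x ∈ K, g * x * g⁻¹ ∈ K := by
    rintro g hg _ ⟨x, hx, rfl⟩
    refine ⟨φ.symm g * x * (φ.symm g)⁻¹, h.norm ?_ hx, by simp⟩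
    have h1 := ((h.hyp.comm g (h.hyp.le hg)).symm).map φ.symm.toMonoidHom
    have e : φ.symm t = t := by rw [MulEquiv.symm_apply_eq]; exact hφt.symm
    simpa [e] using h1
  rcases h.normal_cases hKC hKn with e | e
  · exact (eq_of_le_of_card_ge e (card_map_of_injective φ.injective).le).symm
  · exfalso
    obtain ⟨a, b, -, -, haE, hbE, ha, hb, hab⟩ := h.exists_pair
    have : ∀ z ∈ E₀, orderOf z = 2 → φ z = t := fun z hz hz2 =>
      (e _ ⟨z, hz, rfl⟩).resolve_left fun e' => by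
        rw [show φ.toMonoidHom z = φ z from rfl, φ.map_eq_one_iff] at e'
        rw [e', orderOf_one] at hz2; omega
    exact hab (φ.injective ((this a haE ha).trans (this b hbE hb).symm))

/-- an element of the socle moving the other involutions of `T` in cycles of length three -/
theorem Top.exists_mover : ∃ n ∈ E₀, (∀ x ∈ T, n * x * n⁻¹ ∈ T) ∧
    ∀ x ∈ T, x ≠ 1 → x ≠ t → n * x * n⁻¹ ≠ x ∧ n * (n * x * n⁻¹) * n⁻¹ ≠ x := by
  classical
  haveI : Fact (Nat.Prime 2) := ⟨Nat.prime_two⟩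
  have hab : ∀ S : Sylow 2 G, IsMulCommutative (S : Subgroup G) := fun S => by
    obtain ⟨g, hg⟩ := MulAction.exists_smul_eq G S T
    refine ⟨⟨fun x y => Subtype.ext ?_⟩⟩
    have hm : ∀ z : (S : Subgroup G), g * (z : G) * g⁻¹ ∈ (T : Subgroup G) := fun z => by
      rw [← hg]; exact ⟨z, z.2, rfl⟩
    have := (h.commute (hm x) (hm y)).map (MulAut.conj g⁻¹).toMonoidHom
    simpa [mul_assoc] using this.eq
  obtain ⟨T', a, b, n, S⟩ := AbCentMax.exists_sys h.hyp hab
  have hT' : (T' : Subgroup G) ≤ centralizer ({t} : Set G) := fun x hx => mem_cent.2 (S.tcomm x hx t S.tT)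
  obtain ⟨c, hc⟩ := MulAction.exists_smul_eq ↥(centralizer ({t} : Set G)) (T'.subtype hT') (T.subtype h.le_cent)
  have hct : Commute (c : G) t := mem_cent.1 c.2
  have hmem : ∀ z ∈ T', (c : G) * z * (c : G)⁻¹ ∈ T := fun z hz => by
    have : c * ⟨z, hT' hz⟩ * c⁻¹ ∈ ((T.subtype h.le_cent : Sylow 2 _) : Subgroup (centralizer ({t} : Set G))) := by
      rw [← hc]; exact ⟨⟨z, hT' hz⟩, mem_subgroupOf.2 hz, rfl⟩
    exact mem_subgroupOf.1 this
  have hback : ∀ z ∈ T, ∃ z' ∈ T', z = (c : G) * z' * (c : G)⁻¹ := fun z hz => by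
    have : (⟨z, h.le_cent hz⟩ : centralizer ({t} : Set G)) ∈
        ((c • T'.subtype hT' : Sylow 2 _) : Subgroup (centralizer ({t} : Set G))) := by
      rw [hc]; exact mem_subgroupOf.2 hz
    obtain ⟨w, hw, e⟩ := this
    exact ⟨w, mem_subgroupOf.1 hw, (congrArg Subtype.val e).symm⟩
  have hnt : n * t * n⁻¹ = t := by rw [← (h.hyp.comm n (h.hyp.le S.nE)).eq, mul_inv_cancel_right]
  have hcj : ∀ z, (c : G) * n * (c : G)⁻¹ * ((c : G) * z * (c : G)⁻¹) * ((c : G) * n * (c : G)⁻¹)⁻¹ =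
      (c : G) * (n * z * n⁻¹) * (c : G)⁻¹ := fun z => by group
  have hnT : ∀ z ∈ T', n * z * n⁻¹ ∈ T' := by
    intro z hz
    have hR : ∀ v, (v = 1 ∨ v = a ∨ v = b ∨ v = a * b) → n * v * n⁻¹ ∈ T' := by
      rintro v (rfl | rfl | rfl | rfl)
      · simpa using (T' : Subgroup G).one_mem
      · rw [S.na]; exact S.bT
      · rw [S.nb]; exact (T' : Subgroup G).mul_mem S.aT S.bT
      · rw [show n * (a * b) * n⁻¹ = (n * a * n⁻¹) * (n * b * n⁻¹) by group, S.na, S.nb]
        exact (T' : Subgroup G).mul_mem S.bT ((T' : Subgroup G).mul_mem S.aT S.bT)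
    obtain ⟨v, hv, r | r⟩ := S.cases z hz
    · rw [r]; exact hR v hv
    · rw [r, show n * (t * v) * n⁻¹ = (n * t * n⁻¹) * (n * v * n⁻¹) by group, hnt]
      exact (T' : Subgroup G).mul_mem S.tT (hR v hv)
  refine ⟨(c : G) * n * (c : G)⁻¹, h.norm hct S.nE, fun x hx => ?_, fun x hx hx1 hxt => ?_⟩
  · obtain ⟨z, hz, rfl⟩ := hback x hx
    rw [hcj]; exact hmem _ (hnT z hz)
  · obtain ⟨z, hz, rfl⟩ := hback x hx
    rw [hcj, hcj]
    have hinj : ∀ {p q : G}, (c : G) * p * (c : G)⁻¹ = (c : G) * q * (c : G)⁻¹ → p = q := fun e =>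
      mul_left_cancel (mul_right_cancel e)
    have hba : b * (a * b) = a := by
      rw [show b * (a * b) = b * (b * a) by rw [(S.tcomm a S.aT b S.bT).eq], ← mul_assoc,
        show b * b = 1 by rw [← pow_two, ← S.bo, pow_orderOf_eq_one], one_mul]
    have hnab : n * (a * b) * n⁻¹ = a := by
      rw [show n * (a * b) * n⁻¹ = (n * a * n⁻¹) * (n * b * n⁻¹) by group, S.na, S.nb, hba]
    have ha1 : a ≠ 1 := fun e => by have := S.ao; rw [e, orderOf_one] at this; omega
    have hb1 : b ≠ 1 := fun e => by have := S.bo; rw [e, orderOf_one] at this; omega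
    have hne1 : a ≠ a * b := fun e => hb1 (by simpa using e.symm)
    have hne2 : b ≠ a * b := fun e => ha1 (by simpa using e.symm)
    have hR : ∀ v, (v = a ∨ v = b ∨ v = a * b) → n * v * n⁻¹ ≠ v ∧ n * (n * v * n⁻¹) * n⁻¹ ≠ v := by
      rintro v (rfl | rfl | rfl)
      · rw [S.na, S.nb]; exact ⟨S.ne.symm, hne1.symm⟩
      · rw [S.nb, hnab]; exact ⟨hne2.symm, S.ne⟩
      · rw [hnab, S.na]; exact ⟨hne1, hne2⟩
    obtain ⟨v, hv, r | r⟩ := S.cases z hz
    · subst r
      rcases hv with rfl | hv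
      · exact absurd (by simp) hx1
      · exact ⟨fun e => (hR _ hv).1 (hinj e), fun e => (hR _ hv).2 (hinj e)⟩
    · subst r
      rcases hv with rfl | hv
      · exact absurd (by rw [mul_one, hct.eq, mul_inv_cancel_right]) hxt
      · have e1 : ∀ w, n * (t * w) * n⁻¹ = t * (n * w * n⁻¹) := fun w => by
          rw [show n * (t * w) * n⁻¹ = (n * t * n⁻¹) * (n * w * n⁻¹) by group, hnt]
        rw [e1, e1]
        exact ⟨fun e => (hR v hv).1 (mul_left_cancel (hinj e)),
          fun e => (hR v hv).2 (mul_left_cancel (hinj e))⟩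

end Cfsg.Lib.Walter.R3
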